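import Groth.Agent.Sga3.H782.WordMor
import Groth.Agent.Agf.H611.NilGrp
import Groth.Prelude.Def_AGF
import Mathlib.AlgebraicGeometry.Morphisms.SchemeTheoreticallyDominant

/-!
# Group identities of a flat separated group extend from a schematically dense base change

* `nword`: the `n`-fold left-normed commutator word as a morphism of schemes;
* `forall_upperCentralSeries_bc_iff`: nilpotency of class `≤ n` of the base change in terms of the word;
* `eq_one_of_counit`: a morphism `P ⟶ G` from a flat `S`-scheme to a separated `S`-group which becomes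
  trivial after a schematically dominant quasi-compact base change is trivial;
* `isNilpotentGrp_of_dominant`, `isSolvableGrp_of_dominant`, `isCommMonObj_of_dominant`.
-/

set_option autoImplicit false
universe u v w
open CategoryTheory MonoidalCategory CartesianMonoidalCategory MonObj GrpObj AlgebraicGeometry
open CategoryTheory.Limits
open scoped commutatorElement

namespace Groth.Agent.AlgGrp.K411.WordDens

section Cat

variable {C : Type u} [Category.{v} C] [CartesianMonoidalCategory C] (G : C) [GrpObj G]

/-- The source of the `n`-fold left-normed commutator word. -/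
def nP (G : C) : ℕ → C
  | 0 => G
  | n + 1 => nP G n ⊗ G

/-- The `n`-fold left-normed commutator word. -/
def nword : (n : ℕ) → (nP G n ⟶ G)
  | 0 => 𝟙 G
  | n + 1 => (⁅fst (nP G n) G ≫ nword n, snd (nP G n) G⁆ : nP G n ⊗ G ⟶ G)

variable {G}

lemma mem_ncs_iff {X : C} (n : ℕ) (g : X ⟶ G) :
    g ∈ Agf.H611.NilGrp.ncs (X ⟶ G) n ↔ ∃ x : X ⟶ nP G n, x ≫ nword G n = g := by
  induction n generalizing g with
  | zero => exact ⟨fun _ => ⟨g, Category.comp_id _⟩, fun _ => trivial⟩
  | succ n ih =>
    constructor
    · rintro ⟨a, ha, b, rfl⟩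
      obtain ⟨x, rfl⟩ := (ih a).1 ha
      refine ⟨(lift x b : X ⟶ nP G n ⊗ G), ?_⟩
      change lift x b ≫ (⁅fst (nP G n) G ≫ nword G n,
        snd (nP G n) G⁆ : nP G n ⊗ G ⟶ G) = _
      rw [Sga3.H782.WordMor.comp_commutator, lift_fst_assoc, lift_snd]
    · rintro ⟨x, rfl⟩
      change X ⟶ nP G n ⊗ G at x
      refine ⟨x ≫ fst _ _ ≫ nword G n, (ih _).2 ⟨x ≫ fst _ _, by rw [Category.assoc]⟩,
        x ≫ snd _ _, ?_⟩
      exact (Sga3.H782.WordMor.comp_commutator x _ _).symm

lemma upperCentralSeries_eq_top_iff {X : C} (n : ℕ) :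
    Subgroup.upperCentralSeries (X ⟶ G) n = ⊤ ↔ ∀ x : X ⟶ nP G n, x ≫ nword G n = 1 := by
  rw [Agf.H611.NilGrp.upperCentralSeries_eq_top_iff]
  constructor
  · intro h x
    exact h _ ((mem_ncs_iff n _).mpr ⟨x, rfl⟩)
  · intro h g hg
    obtain ⟨x, rfl⟩ := (mem_ncs_iff n g).mp hg
    exact h x

/-- Nilpotency of class `≤ n` on all points means triviality of the word. -/
lemma forall_upperCentralSeries_iff (n : ℕ) :
    (∀ X : C, Subgroup.upperCentralSeries (X ⟶ G) n = ⊤) ↔ nword G n = 1 := by
  constructor
  · intro h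
    have := (upperCentralSeries_eq_top_iff n).1 (h (nP G n)) (𝟙 _)
    rwa [Category.id_comp] at this
  · intro h X
    rw [upperCentralSeries_eq_top_iff]
    intro x
    rw [h, MonObj.comp_one]

/-- Solvability of length `≤ n` on all points means triviality of the word. -/
lemma forall_derivedSeries_iff (n : ℕ) :
    (∀ X : C, derivedSeries (X ⟶ G) n = ⊥) ↔ Sga3.H782.WordMor.delta G n = 1 := by
  constructor
  · intro h
    have := (Sga3.H782.WordMor.derivedSeries_eq_bot_iff n).1
      (h (Sga3.H782.WordMor.P G n)) (𝟙 _)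
    rwa [Category.id_comp] at this
  · intro h X
    rw [Sga3.H782.WordMor.derivedSeries_eq_bot_iff]
    intro x
    rw [h, MonObj.comp_one]

end Cat

section BaseChange

variable {S S' : Scheme.{u}} (f : S' ⟶ S) (G : Over S) [GrpObj G]

lemma upperCentralSeries_mulEquiv {A B : Type*} [Group A] [Group B] (e : A ≃* B) (n : ℕ) :
    Subgroup.upperCentralSeries A n = ⊤ ↔ Subgroup.upperCentralSeries B n = ⊤ := by
  have h1 := Subgroup.comap_upperCentralSeries e n
  have h2 := Subgroup.comap_upperCentralSeries e.symm n
  constructor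
  · intro h
    rw [← h2, h]
    rfl
  · intro h
    rw [← h1, h]
    rfl

/-- All the groups of points of the base change are nilpotent of class `≤ n` exactly when the
word vanishes on the base change. -/
lemma forall_upperCentralSeries_bc_iff (n : ℕ) :
    (∀ X : Over S', Subgroup.upperCentralSeries (X ⟶ Red.bc f G) n = ⊤) ↔
      (Over.mapPullbackAdj f).counit.app (nP G n) ≫ nword G n = 1 := by
  constructor
  · intro h
    have h1 := (upperCentralSeries_mulEquiv
      (Sga3B.BcPts.bcMulEquiv f (Red.bc f (nP G n)) G) n).mpr (h (Red.bc f (nP G n)))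
    exact (upperCentralSeries_eq_top_iff n).mp h1 _
  · intro h X
    rw [← upperCentralSeries_mulEquiv (Sga3B.BcPts.bcMulEquiv f X G) n,
      upperCentralSeries_eq_top_iff]
    intro x
    have h1 : x = (Over.map f).map ((Over.mapPullbackAdj f).homEquiv X (nP G n) x) ≫
        (Over.mapPullbackAdj f).counit.app (nP G n) := by
      have := (Over.mapPullbackAdj f).homEquiv_counit X (nP G n)
        ((Over.mapPullbackAdj f).homEquiv X (nP G n) x)
      rw [Equiv.symm_apply_apply] at this
      exact this
    rw [h1, Category.assoc, h, MonObj.comp_one]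

variable {f G}

/-- Two morphisms over `S` into something separated which agree after a scheme-theoretically
dominant morphism are equal. -/
lemma eq_of_dominant {A B Y : Over S} (c : A ⟶ B) [IsSchemeTheoreticallyDominant c.left]
    [IsSeparated Y.hom] (g h : B ⟶ Y) (e : c ≫ g = c ≫ h) : g = h := by
  have hfac : (equalizer.lift c e).left ≫ (equalizer.ι g h).left = c.left := by
    rw [← Over.comp_left, equalizer.lift_ι]
  have hker : (equalizer.ι g h).left.ker = ⊥ := by
    rw [eq_bot_iff, ← IsSchemeTheoreticallyDominant.ker_eq_bot c.left, ← hfac]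
    exact Scheme.Hom.le_ker_comp _ _
  have : IsIso (equalizer.ι g h).left := IsClosedImmersion.isIso_iff_ker_eq_bot.mpr hker
  ext1
  rw [← cancel_epi (equalizer.ι g h).left]
  exact congr($(equalizer.condition g h).left)

/-- A morphism from a flat scheme to a separated group which becomes trivial after a
schematically dominant quasi-compact base change is trivial. -/
theorem eq_one_of_counit [QuasiCompact f] [IsSchemeTheoreticallyDominant f] {P : Over S}
    [Flat P.hom] [IsSeparated G.hom] (δ : P ⟶ G)
    (h : (Over.mapPullbackAdj f).counit.app P ≫ δ = 1) : δ = 1 := by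
  have hcl : ((Over.mapPullbackAdj f).counit.app P).left = pullback.fst P.hom f := by simp
  have hdom : IsSchemeTheoreticallyDominant ((Over.mapPullbackAdj f).counit.app P).left := by
    rw [hcl]; infer_instance
  refine eq_of_dominant ((Over.mapPullbackAdj f).counit.app P) _ _ ?_
  rw [h, MonObj.comp_one]

omit [GrpObj G] in
theorem flat_P [Flat G.hom] (n : ℕ) : Flat (Sga3.H782.WordMor.P G n).hom := by
  induction n with
  | zero => assumption
  | succ n ih =>
    change Flat (Sga3.H782.WordMor.P G n ⊗ Sga3.H782.WordMor.P G n).hom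
    rw [Over.tensorObj_hom]
    infer_instance

omit [GrpObj G] in
theorem flat_nP [Flat G.hom] (n : ℕ) : Flat (nP G n).hom := by
  induction n with
  | zero => assumption
  | succ n ih =>
    change Flat (nP G n ⊗ G).hom
    rw [Over.tensorObj_hom]
    infer_instance

/-- **Solvability extends** from a schematically dense base change, for a flat separated group. -/
theorem isSolvableGrp_of_dominant [QuasiCompact f] [IsSchemeTheoreticallyDominant f]
    [Flat G.hom] [IsSeparated G.hom] (h : Red.IsSolvableGrp (Red.bc f G)) :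
    Red.IsSolvableGrp G := by
  obtain ⟨n, hn⟩ := h
  have := flat_P (G := G) n
  refine ⟨n, (forall_derivedSeries_iff n).2 (eq_one_of_counit (f := f) _ ?_)⟩
  exact (Sga3.H782.WordMor.forall_derivedSeries_bc_iff f G n).1 hn

/-- **Nilpotency extends** from a schematically dense base change, for a flat separated group. -/
theorem isNilpotentGrp_of_dominant [QuasiCompact f] [IsSchemeTheoreticallyDominant f]
    [Flat G.hom] [IsSeparated G.hom] (h : AGF.IsNilpotentGrp (Red.bc f G)) :
    AGF.IsNilpotentGrp G := by
  obtain ⟨n, hn⟩ := h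
  have := flat_nP (G := G) n
  refine ⟨n, (forall_upperCentralSeries_iff n).2 (eq_one_of_counit (f := f) _ ?_)⟩
  exact (forall_upperCentralSeries_bc_iff f G n).1 hn

variable (f G) in
theorem isSolvableGrp_bc (h : Red.IsSolvableGrp G) : Red.IsSolvableGrp (Red.bc f G) := by
  obtain ⟨n, hn⟩ := h
  refine ⟨n, (Sga3.H782.WordMor.forall_derivedSeries_bc_iff f G n).2 ?_⟩
  rw [(forall_derivedSeries_iff n).1 hn, MonObj.comp_one]

variable (f G) in
theorem isNilpotentGrp_bc (h : AGF.IsNilpotentGrp G) : AGF.IsNilpotentGrp (Red.bc f G) := by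
  obtain ⟨n, hn⟩ := h
  refine ⟨n, (forall_upperCentralSeries_bc_iff f G n).2 ?_⟩
  rw [(forall_upperCentralSeries_iff n).1 hn, MonObj.comp_one]

/-- The group is commutative iff the commutator morphism is trivial. -/
lemma isCommMonObj_iff_delta {C : Type u} [Category.{v} C] [CartesianMonoidalCategory C]
    [BraidedCategory C] (G : C) [GrpObj G] :
    IsCommMonObj G ↔ (⁅fst G G, snd G G⁆ : G ⊗ G ⟶ G) = 1 := by
  rw [commutatorElement_eq_one_iff_mul_comm]
  constructor
  · intro h
    exact mul_comm _ _
  · intro h
    refine ⟨?_⟩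
    have h1 : (μ[G] : G ⊗ G ⟶ G) = fst G G * snd G G := by
      rw [Hom.mul_def, lift_fst_snd, Category.id_comp]
    have h2 : (β_ G G).hom ≫ μ[G] = snd G G * fst G G := by
      rw [h1, MonObj.comp_mul, braiding_hom_fst, braiding_hom_snd]
    rw [h2, h1, h]

/-- **Commutativity extends** from a schematically dense base change, for a flat separated
group. -/
theorem isCommMonObj_of_dominant [QuasiCompact f] [IsSchemeTheoreticallyDominant f]
    [Flat G.hom] [IsSeparated G.hom] (h : IsCommMonObj (Red.bc f G)) :
    IsCommMonObj G := by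
  rw [isCommMonObj_iff_delta]
  have hfl : Flat (G ⊗ G).hom := by rw [Over.tensorObj_hom]; infer_instance
  refine eq_one_of_counit (f := f) _ ?_
  have h1 : derivedSeries (Red.bc f (G ⊗ G) ⟶ Red.bc f G) 1 = ⊥ := by
    rw [Sga3.H782.WordMor.derivedSeries_eq_bot_iff]
    intro x
    change x ≫ (⁅_, _⁆ : _) = 1
    rw [Sga3.H782.WordMor.comp_commutator, commutatorElement_eq_one_iff_mul_comm]
    exact mul_comm _ _
  have h2 := (Sga3.H782.WordMor.derivedSeries_mulEquiv
      (Sga3B.BcPts.bcMulEquiv f (Red.bc f (G ⊗ G)) G) 1).mpr h1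
  have h3 := (Sga3.H782.WordMor.derivedSeries_eq_bot_iff 1).mp h2
    ((Over.mapPullbackAdj f).counit.app (G ⊗ G))
  rw [← h3]
  change _ = _ ≫ (⁅_, _⁆ : _)
  rfl

end BaseChange

end Groth.Agent.AlgGrp.K411.WordDens
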