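import Groth.Agent.AlgGrp.K411.WordDens
import Groth.Agent.Sga3C.GrpIrr
import Groth.Agent.Books.AlgPtsGrp
import Groth.Agent.Books.AntiAffine
import Groth.Agent.Books.AlgPtsSmooth
import Groth.Agent.Sga3B.KerGrp
import Groth.Agent.Sga3C.SchemImage
import Mathlib.AlgebraicGeometry.Morphisms.QuasiFinite

/-!
# Group identities and isogenies

Over a field `k`, let `f : G ⟶ H` be a quasi-finite homomorphism.

* `eq_one_of_comp_eq_one`: a morphism `w : P ⟶ G` from a reduced connected `k`-scheme with a rational point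
  mapping to `1` is trivial as soon as `w ≫ f` is trivial;
* `isSolvableGrp_iff_of_isogeny`, `isNilpotentGrp_iff_of_isogeny`, `isCommMonObj_iff_of_isogeny`:
  invariance of solvability, nilpotency, commutativity under isogenies of smooth connected groups.
-/

set_option autoImplicit false
universe u v w
open CategoryTheory MonoidalCategory CartesianMonoidalCategory MonObj GrpObj AlgebraicGeometry
open CategoryTheory.Limits
open scoped commutatorElement

namespace Groth.Agent.AlgGrp.K411.IsogWord

variable {k : Type u} [Field k]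

lemma range_toUnit_comp {T Y : Over (Spec (CommRingCat.of k))}
    (y : 𝟙_ (Over (Spec (CommRingCat.of k))) ⟶ Y) (t : T.left) :
    (toUnit T ≫ y).left t = y.left (IsLocalRing.closedPoint k) := by
  rw [Over.comp_left, Scheme.Hom.comp_apply]
  have hsub : Subsingleton (𝟙_ (Over (Spec (CommRingCat.of k)))).left :=
    inferInstanceAs (Subsingleton (Spec (CommRingCat.of k)))
  exact congrArg y.left (Subsingleton.elim _ _)

/-- A morphism from a reduced connected scheme with a rational point mapping to `1` is trivial as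
soon as its composite with a quasi-finite homomorphism is trivial. -/
theorem eq_one_of_comp_eq_one {P G H : Over (Spec (CommRingCat.of k))} [GrpObj G] [GrpObj H]
    (f : G ⟶ H) [IsMonHom f] [LocallyQuasiFinite f.left] [IsReduced P.left]
    [PreconnectedSpace P.left]
    (x₀ : 𝟙_ (Over (Spec (CommRingCat.of k))) ⟶ P) (w : P ⟶ G) (hw : w ≫ f = 1)
    (h0 : x₀ ≫ w = 1) : w = 1 := by
  obtain ⟨t, ht⟩ := Sga3B.KerGrp.exists_lift f w hw
  obtain ⟨_, _⟩ := Sga3B.KerGrp.exists_grpObj f
  have hlqf : LocallyQuasiFinite (Sga3B.KerGrp.kerObj f).hom :=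
    inferInstanceAs (LocallyQuasiFinite (pullback.snd f.left _))
  have hart : IsLocallyArtinian (Spec (CommRingCat.of k)) := inferInstance
  have hart2 : IsLocallyArtinian (Sga3B.KerGrp.kerObj f).left :=
    IsLocallyArtinian.of_locallyQuasiFinite (f := (Sga3B.KerGrp.kerObj f).hom)
  have hdisc : DiscreteTopology (Sga3B.KerGrp.kerObj f).left := inferInstance
  have h1 : x₀ ≫ t = η[Sga3B.KerGrp.kerObj f] := by
    rw [← cancel_mono (Sga3B.KerGrp.kerι f), Category.assoc, ht, h0, IsMonHom.one_hom]
    rfl
  have h2 : Set.range t.left ⊆ Set.range (η[Sga3B.KerGrp.kerObj f]).left := by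
    have h3 : (Set.range t.left).Subsingleton :=
      (isPreconnected_range t.left.continuous).subsingleton
    rintro _ ⟨p, rfl⟩
    refine ⟨IsLocalRing.closedPoint k, ?_⟩
    refine h3 ?_ ⟨p, rfl⟩
    rw [← h1, Over.comp_left, Scheme.Hom.comp_apply]
    exact ⟨_, rfl⟩
  obtain ⟨s, hs⟩ := Books.AlgPtsGrp.exists_lift (η[Sga3B.KerGrp.kerObj f]) t h2
  rw [← ht, ← hs, toUnit_unique s (toUnit P), Category.assoc, IsMonHom.one_hom, one_eq_one,
    MonObj.comp_one]

section Connected

variable (G : Over (Spec (CommRingCat.of k))) [GrpObj G]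

/-- A connected group locally of finite type over a field is geometrically irreducible. -/
theorem geometricallyIrreducible [LocallyOfFiniteType G.hom] [ConnectedSpace G.left] :
    GeometricallyIrreducible G.hom := by
  have h1 : GrpObj (Over.mk G.hom) := inferInstanceAs (GrpObj G)
  exact Sga3C.GrpIrr.geometricallyIrreducible_of_connectedSpace G.hom

omit [GrpObj G] in
theorem tensor_props (X Y : Over (Spec (CommRingCat.of k))) [Smooth X.hom] [Smooth Y.hom]
    [GeometricallyIrreducible X.hom] [GeometricallyIrreducible Y.hom] :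
    Smooth (X ⊗ Y).hom ∧ GeometricallyIrreducible (X ⊗ Y).hom := by
  rw [Over.tensorObj_hom]
  refine ⟨inferInstance, ?_⟩
  exact GeometricallyIrreducible.comp _ _

omit [GrpObj G] in
theorem P_props [Smooth G.hom] [GeometricallyIrreducible G.hom] (n : ℕ) :
    Smooth (Sga3.H782.WordMor.P G n).hom ∧
      GeometricallyIrreducible (Sga3.H782.WordMor.P G n).hom := by
  induction n with
  | zero => exact ⟨‹_›, ‹_›⟩
  | succ n ih =>
    obtain ⟨_, _⟩ := ih
    exact tensor_props (Sga3.H782.WordMor.P G n) (Sga3.H782.WordMor.P G n)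

omit [GrpObj G] in
theorem nP_props [Smooth G.hom] [GeometricallyIrreducible G.hom] (n : ℕ) :
    Smooth (WordDens.nP G n).hom ∧
      GeometricallyIrreducible (WordDens.nP G n).hom := by
  induction n with
  | zero => exact ⟨‹_›, ‹_›⟩
  | succ n ih =>
    obtain ⟨_, _⟩ := ih
    exact tensor_props (WordDens.nP G n) G

end Connected

section Nat

variable {C : Type u} [Category.{v} C] [CartesianMonoidalCategory C] {G H : C} [GrpObj G] [GrpObj H]

/-- Functoriality of the source of the derived word. -/
def Pmap {G H : C} (f : G ⟶ H) : (n : ℕ) → (Sga3.H782.WordMor.P G n ⟶ Sga3.H782.WordMor.P H n)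
  | 0 => f
  | n + 1 => (Pmap f n ⊗ₘ Pmap f n :)

/-- Functoriality of the source of the left-normed commutator. -/
def nPmap {G H : C} (f : G ⟶ H) : (n : ℕ) → (WordDens.nP G n ⟶ WordDens.nP H n)
  | 0 => f
  | n + 1 => (nPmap f n ⊗ₘ f :)

lemma commutator_comp {X : C} (a b : X ⟶ G) (f : G ⟶ H) [IsMonHom f] :
    ⁅a, b⁆ ≫ f = ⁅a ≫ f, b ≫ f⁆ := by
  simp only [commutatorElement_def, MonObj.mul_comp, GrpObj.inv_comp]

lemma delta_comp (f : G ⟶ H) [IsMonHom f] (n : ℕ) :
    Sga3.H782.WordMor.delta G n ≫ f = Pmap f n ≫ Sga3.H782.WordMor.delta H n := by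
  induction n with
  | zero => exact (Category.id_comp _).trans (Category.comp_id _).symm
  | succ n ih =>
    rw [Sga3.H782.WordMor.delta_succ, Sga3.H782.WordMor.delta_succ, commutator_comp,
      Sga3.H782.WordMor.comp_commutator, Category.assoc, Category.assoc, ih]
    congr 1
    · change fst _ _ ≫ Pmap f n ≫ _ = (Pmap f n ⊗ₘ Pmap f n) ≫ fst _ _ ≫ _
      rw [tensorHom_fst_assoc]
    · change snd _ _ ≫ Pmap f n ≫ _ = (Pmap f n ⊗ₘ Pmap f n) ≫ snd _ _ ≫ _
      rw [tensorHom_snd_assoc]

lemma nword_comp (f : G ⟶ H) [IsMonHom f] (n : ℕ) :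
    WordDens.nword G n ≫ f = nPmap f n ≫ WordDens.nword H n := by
  induction n with
  | zero => exact (Category.id_comp _).trans (Category.comp_id _).symm
  | succ n ih =>
    change (⁅fst (WordDens.nP G n) G ≫ WordDens.nword G n, snd (WordDens.nP G n) G⁆ : _) ≫ f =
      (nPmap f n ⊗ₘ f) ≫
        (⁅fst (WordDens.nP H n) H ≫ WordDens.nword H n, snd (WordDens.nP H n) H⁆ : _)
    rw [commutator_comp, Sga3.H782.WordMor.comp_commutator, Category.assoc, ih,
      tensorHom_fst_assoc, tensorHom_snd]

/-- The unit point. -/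
def uP (G : C) [GrpObj G] : (n : ℕ) → (𝟙_ C ⟶ Sga3.H782.WordMor.P G n)
  | 0 => (1 : 𝟙_ C ⟶ G)
  | n + 1 => (lift (uP G n) (uP G n) :)

/-- The unit point. -/
def unP (G : C) [GrpObj G] : (n : ℕ) → (𝟙_ C ⟶ WordDens.nP G n)
  | 0 => (1 : 𝟙_ C ⟶ G)
  | n + 1 => (lift (unP G n) (1 : 𝟙_ C ⟶ G) :)

lemma uP_delta (n : ℕ) : uP G n ≫ Sga3.H782.WordMor.delta G n = 1 := by
  induction n with
  | zero => exact Category.comp_id _
  | succ n ih =>
    rw [Sga3.H782.WordMor.delta_succ, Sga3.H782.WordMor.comp_commutator]
    change ⁅lift (uP G n) (uP G n) ≫ fst _ _ ≫ _, lift (uP G n) (uP G n) ≫ snd _ _ ≫ _⁆ = _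
    rw [lift_fst_assoc, lift_snd_assoc, ih, commutatorElement_self]

lemma unP_nword (n : ℕ) : unP G n ≫ WordDens.nword G n = 1 := by
  induction n with
  | zero => exact Category.comp_id _
  | succ n ih =>
    change lift (unP G n) (1 : 𝟙_ C ⟶ G) ≫
      (⁅fst (WordDens.nP G n) G ≫ WordDens.nword G n, snd (WordDens.nP G n) G⁆ : _) = _
    rw [Sga3.H782.WordMor.comp_commutator, lift_fst_assoc, lift_snd, ih, commutatorElement_self]

end Nat

section Surj

variable {S : Scheme.{u}}

lemma surjective_tensor {X Y X' Y' : Over S} (f : X ⟶ Y) (g : X' ⟶ Y') [Surjective f.left]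
    [Surjective g.left] : Surjective (f ⊗ₘ g).left := by
  have h1 : Surjective (f ▷ X').left := Books.AntiAffine.whiskerRight_left_mem @Surjective _ _ ‹_›
  have h2 : Surjective (Y ◁ g).left := Books.AntiAffine.whiskerLeft_left_mem @Surjective _ _ ‹_›
  rw [MonoidalCategory.tensorHom_def, Over.comp_left]
  infer_instance

lemma surjective_Pmap {G H : Over S} (f : G ⟶ H) [Surjective f.left] (n : ℕ) :
    Surjective (Pmap f n).left := by
  induction n with
  | zero => assumption
  | succ n ih => exact surjective_tensor _ _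

lemma surjective_nPmap {G H : Over S} (f : G ⟶ H) [Surjective f.left] (n : ℕ) :
    Surjective (nPmap f n).left := by
  induction n with
  | zero => assumption
  | succ n ih => exact surjective_tensor _ _

end Surj

section Isog

variable {G H : Over (Spec (CommRingCat.of k))} [GrpObj G] [GrpObj H]

/-- A morphism from a reduced scheme to a group which is trivial after a surjective morphism is
trivial. -/
theorem eq_one_of_surjective {P Q : Over (Spec (CommRingCat.of k))} (a : P ⟶ Q)
    [Surjective a.left] [IsReduced Q.left] (w : Q ⟶ H) (h : a ≫ w = 1) : w = 1 := by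
  have hd : IsDominant a.left := inferInstance
  have := IsSchemeTheoreticallyDominant.of_isDominant a.left
  have := Books.AntiAffine.isSeparated_hom H
  refine WordDens.eq_of_dominant a _ _ ?_
  rw [h, MonObj.comp_one]

omit [GrpObj G] [GrpObj H] in
theorem isReduced_P [Smooth G.hom] (n : ℕ) :
    IsReduced (Sga3.H782.WordMor.P G n).left := by
  have h : Smooth (Sga3.H782.WordMor.P G n).hom := by
    induction n with
    | zero => assumption
    | succ n ih =>
      change Smooth (Sga3.H782.WordMor.P G n ⊗ Sga3.H782.WordMor.P G n).hom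
      rw [Over.tensorObj_hom]
      infer_instance
  exact Books.AlgPtsSmooth.isReduced_of_smooth _

omit [GrpObj G] [GrpObj H] in
theorem isReduced_nP [Smooth G.hom] (n : ℕ) :
    IsReduced (WordDens.nP G n).left := by
  have h : Smooth (WordDens.nP G n).hom := by
    induction n with
    | zero => assumption
    | succ n ih =>
      change Smooth (WordDens.nP G n ⊗ G).hom
      rw [Over.tensorObj_hom]
      infer_instance
  exact Books.AlgPtsSmooth.isReduced_of_smooth _

variable (f : G ⟶ H) [IsMonHom f]

/-- **Derived length and surjective homomorphisms** onto a smooth group. -/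
theorem delta_eq_one_of_surjective [Surjective f.left] [Smooth H.hom] (n : ℕ)
    (h : Sga3.H782.WordMor.delta G n = 1) : Sga3.H782.WordMor.delta H n = 1 := by
  have h1 := isReduced_P (G := H) n
  have h2 := surjective_Pmap f n
  refine eq_one_of_surjective (Pmap f n) _ ?_
  rw [← delta_comp, h, MonObj.one_comp]

theorem nword_eq_one_of_surjective [Surjective f.left] [Smooth H.hom] (n : ℕ)
    (h : WordDens.nword G n = 1) : WordDens.nword H n = 1 := by
  have h1 := isReduced_nP (G := H) n
  have h2 := surjective_nPmap f n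
  refine eq_one_of_surjective (nPmap f n) _ ?_
  rw [← nword_comp, h, MonObj.one_comp]

/-- **Derived length and quasi-finite homomorphisms** from a smooth connected group. -/
theorem delta_eq_one_of_quasiFinite [LocallyQuasiFinite f.left] [Smooth G.hom]
    [ConnectedSpace G.left] (n : ℕ)
    (h : Sga3.H782.WordMor.delta H n = 1) : Sga3.H782.WordMor.delta G n = 1 := by
  have h0 := geometricallyIrreducible G
  have h1 := isReduced_P (G := G) n
  obtain ⟨h2, h3⟩ := P_props G n
  have h4 : IrreducibleSpace (Sga3.H782.WordMor.P G n).left :=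
    GeometricallyIrreducible.irreducibleSpace_of_subsingleton (Sga3.H782.WordMor.P G n).hom
  refine eq_one_of_comp_eq_one f (uP G n) _ ?_ (uP_delta n)
  rw [delta_comp, h, MonObj.comp_one]

theorem nword_eq_one_of_quasiFinite [LocallyQuasiFinite f.left] [Smooth G.hom]
    [ConnectedSpace G.left] (n : ℕ)
    (h : WordDens.nword H n = 1) : WordDens.nword G n = 1 := by
  have h0 := geometricallyIrreducible G
  have h1 := isReduced_nP (G := G) n
  obtain ⟨h2, h3⟩ := nP_props G n
  have h4 : IrreducibleSpace (WordDens.nP G n).left :=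
    GeometricallyIrreducible.irreducibleSpace_of_subsingleton (WordDens.nP G n).hom
  refine eq_one_of_comp_eq_one f (unP G n) _ ?_ (unP_nword n)
  rw [nword_comp, h, MonObj.comp_one]

theorem isSolvableGrp_of_surjective [Surjective f.left] [Smooth H.hom]
    (h : Red.IsSolvableGrp G) : Red.IsSolvableGrp H := by
  obtain ⟨n, hn⟩ := h
  exact ⟨n, (WordDens.forall_derivedSeries_iff n).2
    (delta_eq_one_of_surjective f n ((WordDens.forall_derivedSeries_iff n).1 hn))⟩

theorem isSolvableGrp_of_quasiFinite [LocallyQuasiFinite f.left] [Smooth G.hom]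
    [ConnectedSpace G.left] (h : Red.IsSolvableGrp H) : Red.IsSolvableGrp G := by
  obtain ⟨n, hn⟩ := h
  exact ⟨n, (WordDens.forall_derivedSeries_iff n).2
    (delta_eq_one_of_quasiFinite f n ((WordDens.forall_derivedSeries_iff n).1 hn))⟩

theorem isNilpotentGrp_of_surjective [Surjective f.left] [Smooth H.hom]
    (h : AGF.IsNilpotentGrp G) : AGF.IsNilpotentGrp H := by
  obtain ⟨n, hn⟩ := h
  exact ⟨n, (WordDens.forall_upperCentralSeries_iff n).2
    (nword_eq_one_of_surjective f n ((WordDens.forall_upperCentralSeries_iff n).1 hn))⟩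

theorem isNilpotentGrp_of_quasiFinite [LocallyQuasiFinite f.left] [Smooth G.hom]
    [ConnectedSpace G.left] (h : AGF.IsNilpotentGrp H) : AGF.IsNilpotentGrp G := by
  obtain ⟨n, hn⟩ := h
  exact ⟨n, (WordDens.forall_upperCentralSeries_iff n).2
    (nword_eq_one_of_quasiFinite f n ((WordDens.forall_upperCentralSeries_iff n).1 hn))⟩

omit [GrpObj H] in
lemma isCommMonObj_iff_delta : IsCommMonObj G ↔ Sga3.H782.WordMor.delta G 1 = 1 := by
  rw [WordDens.isCommMonObj_iff_delta]
  change _ ↔ ⁅fst G G ≫ 𝟙 G, snd G G ≫ 𝟙 G⁆ = 1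
  rw [Category.comp_id, Category.comp_id]

theorem isCommMonObj_of_surjective [Surjective f.left] [Smooth H.hom]
    (h : IsCommMonObj G) : IsCommMonObj H :=
  isCommMonObj_iff_delta.2 (delta_eq_one_of_surjective f 1 (isCommMonObj_iff_delta.1 h))

theorem isCommMonObj_of_quasiFinite [LocallyQuasiFinite f.left] [Smooth G.hom]
    [ConnectedSpace G.left] (h : IsCommMonObj H) : IsCommMonObj G :=
  isCommMonObj_iff_delta.2 (delta_eq_one_of_quasiFinite f 1 (isCommMonObj_iff_delta.1 h))

end Isog

end Groth.Agent.AlgGrp.K411.IsogWord
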