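import Groth.Prelude.Def_Red2
import Mathlib.AlgebraicGeometry.Geometrically.Irreducible

/-!
# Base change of morphisms over a base
-/

set_option autoImplicit false
universe u
open CategoryTheory MonoidalCategory CartesianMonoidalCategory MonObj GrpObj AlgebraicGeometry
open CategoryTheory.Limits

namespace Groth.Agent.AlgGrp.K411.Bc

section

variable {S S' : Scheme.{u}} (f : S' ⟶ S)

theorem isPullback_map_left {Z Y : Over S} (i : Z ⟶ Y) :
    IsPullback (pullback.fst Z.hom f) ((Over.pullback f).map i).left i.left
      (pullback.fst Y.hom f) := by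
  have hw : i.left ≫ Y.hom = Z.hom := Over.w i
  have h2 : IsPullback (pullback.fst Z.hom f) (pullback.snd Z.hom f) (i.left ≫ Y.hom) f := by
    rw [hw]
    exact IsPullback.of_hasPullback Z.hom f
  have h1 : pullback.fst Z.hom f ≫ i.left =
      ((Over.pullback f).map i).left ≫ pullback.fst Y.hom f :=
    (pullback.lift_fst _ _ _).symm
  have h3 : ((Over.pullback f).map i).left ≫ pullback.snd Y.hom f = pullback.snd Z.hom f :=
    pullback.lift_snd _ _ _
  refine IsPullback.of_bot (h₂₁ := pullback.fst Y.hom f) (v₂₁ := pullback.snd Y.hom f)
    (v₂₂ := Y.hom) (h₃₁ := f) ?_ h1 (IsPullback.of_hasPullback Y.hom f)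
  rw [h3]
  exact h2

/-- Properties stable under base change pass to the base change of an `S`-morphism. -/
theorem map_left_mem {P : MorphismProperty Scheme.{u}} [P.IsStableUnderBaseChange]
    {Z Y : Over S} (i : Z ⟶ Y) (h : P i.left) : P ((Over.pullback f).map i).left :=
  MorphismProperty.of_isPullback (isPullback_map_left f i) h

/-- Properties stable under base change pass to the base change of an `S`-scheme. -/
theorem hom_mem {P : MorphismProperty Scheme.{u}} [P.IsStableUnderBaseChange]
    {Z : Over S} (h : P Z.hom) : P (Red.bc f Z).hom :=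
  MorphismProperty.pullback_snd _ _ h

end

section Field

variable {k L : Type u} [Field k] [Field L] (φ : Spec (CommRingCat.of L) ⟶ Spec (CommRingCat.of k))
  (X : Over (Spec (CommRingCat.of k)))

instance isAffine_bc [IsAffine X.left] : IsAffine (Red.bc φ X).left :=
  inferInstanceAs (IsAffine (pullback X.hom φ))

theorem connectedSpace_bc [GeometricallyIrreducible X.hom] :
    ConnectedSpace (Red.bc φ X).left := by
  have h : GeometricallyIrreducible (Red.bc φ X).hom :=
    inferInstanceAs (GeometricallyIrreducible (pullback.snd X.hom φ))
  have : IrreducibleSpace (Red.bc φ X).left :=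
    GeometricallyIrreducible.irreducibleSpace_of_subsingleton (Red.bc φ X).hom
  infer_instance

end Field

end Groth.Agent.AlgGrp.K411.Bc
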