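import Groth.Agent.Sga3C.SubGrp
import Mathlib.AlgebraicGeometry.Morphisms.ClosedImmersion
import Mathlib.AlgebraicGeometry.Limits
import Mathlib.CategoryTheory.Limits.Constructions.Over.Connected
import Mathlib.CategoryTheory.Monoidal.Cartesian.Over
import Mathlib.CategoryTheory.Monoidal.Cartesian.Grp

/-!
# The preimage of a subgroup under a homomorphism of group schemes
-/

set_option autoImplicit false
universe u
open CategoryTheory MonoidalCategory CartesianMonoidalCategory MonObj GrpObj AlgebraicGeometry
open CategoryTheory.Limits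

namespace Groth.Agent.AlgGrp.K411.PreimGrp

variable {S : Scheme.{u}} {G H V : Over S} (f : G ⟶ H) (v : V ⟶ H)

/-- The preimage of `v : V ⟶ H` under `f : G ⟶ H`. -/
noncomputable def preObj : Over S := Over.mk (pullback.fst f.left v.left ≫ G.hom)

/-- The inclusion of the preimage. -/
noncomputable def preι : preObj f v ⟶ G := Over.homMk (pullback.fst f.left v.left) rfl

/-- The projection from the preimage. -/
noncomputable def preπ : preObj f v ⟶ V := Over.homMk (pullback.snd f.left v.left) (by
  have h := pullback.condition (f := f.left) (g := v.left) =≫ H.hom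
  simp only [Category.assoc, Over.w] at h
  exact h.symm)

@[simp] lemma preι_left : (preι f v).left = pullback.fst f.left v.left := rfl

@[simp] lemma preπ_left : (preπ f v).left = pullback.snd f.left v.left := rfl

lemma condition : preι f v ≫ f = preπ f v ≫ v := by
  ext1
  exact pullback.condition (f := f.left) (g := v.left)

lemma isPullback : IsPullback (preι f v) (preπ f v) f v := by
  refine IsPullback.of_map (Over.forget S) (condition f v) ?_
  exact IsPullback.of_hasPullback f.left v.left

variable {f v} in
lemma exists_lift {T : Over S} (a : T ⟶ G) (b : T ⟶ V) (h : a ≫ f = b ≫ v) :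
    ∃ t : T ⟶ preObj f v, t ≫ preι f v = a ∧ t ≫ preπ f v = b :=
  ⟨(isPullback f v).lift a b h, (isPullback f v).lift_fst _ _ _, (isPullback f v).lift_snd _ _ _⟩

instance mono_preι [Mono v] : Mono (preι f v) := by
  refine ⟨fun a b h => (isPullback f v).hom_ext h ?_⟩
  rw [← cancel_mono v, Category.assoc, Category.assoc, ← condition, ← Category.assoc, h,
    Category.assoc]

/-- The group structure on the preimage. -/
theorem exists_grpObj [GrpObj G] [GrpObj H] [GrpObj V] [IsMonHom f] [IsMonHom v] [Mono v] :
    ∃ _ : GrpObj (preObj f v), IsMonHom (preι f v) ∧ IsMonHom (preπ f v) := by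
  obtain ⟨inst, h⟩ : ∃ _ : GrpObj (preObj f v), IsMonHom (preι f v) := by
    apply Sga3C.SubGrp.exists_grpObj_of_mono
    · obtain ⟨m, hm, -⟩ := exists_lift (f := f) (v := v) ((preι f v ⊗ₘ preι f v) ≫ μ[G])
        ((fst _ _ ≫ preπ f v) * (snd _ _ ≫ preπ f v)) (by
          have : (preι f v ⊗ₘ preι f v) ≫ μ[G] =
              (fst _ _ ≫ preι f v) * (snd _ _ ≫ preι f v) := by
            rw [Hom.mul_def]
            congr 1
          rw [this, MonObj.mul_comp, MonObj.mul_comp, Category.assoc, Category.assoc,
            Category.assoc, Category.assoc, condition])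
      exact ⟨m, hm⟩
    · obtain ⟨e, he, -⟩ := exists_lift (f := f) (v := v) η[G] η[V] (by
        rw [IsMonHom.one_hom, IsMonHom.one_hom])
      exact ⟨e, he⟩
    · obtain ⟨w, hw, -⟩ := exists_lift (f := f) (v := v) (preι f v ≫ ι[G]) (preπ f v)⁻¹ (by
        have : preι f v ≫ ι[G] = (preι f v)⁻¹ := (Hom.inv_def _).symm
        rw [this, GrpObj.inv_comp, GrpObj.inv_comp, condition])
      exact ⟨w, hw⟩
  refine ⟨inst, h, ?_⟩
  have h2 : IsMonHom (preπ f v ≫ v) := by
    rw [← condition]; infer_instance
  exact Sga3C.SubGrp.isMonHom_of_comp_mono (preπ f v) v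

end Groth.Agent.AlgGrp.K411.PreimGrp
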