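import Groth.Agent.AlgGrp.K411.IsogWord
import Groth.Agent.AlgGrp.K411.Bc
import Groth.Agent.AlgGrp.K411.PreimGrp
import Groth.Agent.FlatB.GeomRed
import Groth.Agent.Sga3C.QuotProps
import Groth.Agent.Sga3C.DimTop
import Groth.Agent.S3034
import Groth.Agent.S3278
import Groth.Agent.S3280
import Groth.Agent.Sga3.H794.RedIdNormal

/-!
# Homomorphisms of algebraic groups over a field: images, preimages, isogenies
-/

set_option autoImplicit false
universe u
open CategoryTheory MonoidalCategory CartesianMonoidalCategory MonObj GrpObj AlgebraicGeometry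
open CategoryTheory.Limits

namespace Groth.Agent.AlgGrp.K411.HomKit

variable {k : Type u} [Field k]

/-- Smoothness of groups descends along flat surjective morphisms. -/
theorem smooth_of_flat_surjective {X H : Over (Spec (CommRingCat.of k))} [GrpObj H]
    [LocallyOfFiniteType H.hom] (f : X ⟶ H) [Flat f.left] [Surjective f.left] [Smooth X.hom] :
    Smooth H.hom := by
  have h1 : GrpObj (Over.mk H.hom) := inferInstanceAs (GrpObj H)
  have h2 : GeometricallyReduced H.hom := by
    refine ⟨fun L _ y Z a b h => ?_⟩
    have h3 : Smooth (Red.bc y X).hom := Bc.hom_mem (P := @Smooth) y ‹_›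
    have h4 : IsReduced (Red.bc y X).left := Books.AlgPtsSmooth.isReduced_of_smooth _
    have h5 : Flat ((Over.pullback y).map f).left := Bc.map_left_mem (P := @Flat) y f ‹_›
    have h6 : Surjective ((Over.pullback y).map f).left :=
      Bc.map_left_mem (P := @Surjective) y f ‹_›
    have h7 : IsReduced (Red.bc y H).left :=
      FlatB.GeomRed.isReduced_of_flat_of_surjective ((Over.pullback y).map f).left
    have h8 : IsReduced (pullback H.hom y) := h7
    exact isReduced_of_isOpenImmersion h.isoPullback.hom
  exact smooth_of_grpObj H.hom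

lemma flat_over_field {X Y : Scheme.{u}} (g : X ⟶ Y) [IsIntegral Y] [Subsingleton Y] : Flat g :=
  inferInstance

/-- A surjective homomorphism onto a reduced group is flat. -/
theorem flat_of_surjective {G H : Over (Spec (CommRingCat.of k))} [GrpObj G] [GrpObj H]
    [LocallyOfFiniteType G.hom] [LocallyOfFiniteType H.hom] (f : G ⟶ H) [IsMonHom f]
    [QuasiCompact f.left] [Surjective f.left] [IsReduced H.left] : Flat f.left := by
  have hN : Flat (pullback.snd f.left (η[H] : 𝟙_ (Over (Spec (CommRingCat.of k))) ⟶ H).left) := by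
    change Flat (Y := Spec (CommRingCat.of k)) (pullback.snd f.left _)
    infer_instance
  obtain ⟨C, _, p, i, _, _, hpi, hfl, hsurj, -, hcl⟩ := S3034.result k G H f hN
  have hs : Surjective i.left := by
    have h1 : Surjective (p.left ≫ i.left) := by
      rw [← Over.comp_left, hpi]; infer_instance
    exact Surjective.of_comp p.left i.left
  have hiso : IsIso i.left := isIso_of_isClosedImmersion_of_surjective i.left
  rw [← hpi, Over.comp_left]
  infer_instance

/-- The kernel of a homomorphism is normal. -/
theorem isNormalHom_kerι {S : Scheme.{u}} {G H : Over S} [GrpObj G] [GrpObj H] (f : G ⟶ H)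
    [IsMonHom f] [GrpObj (Sga3B.KerGrp.kerObj f)] : AlgGrp.IsNormalHom (Sga3B.KerGrp.kerι f) := by
  intro T g n
  obtain ⟨n', hn'⟩ := Sga3B.KerGrp.exists_lift f (g * (n ≫ Sga3B.KerGrp.kerι f) * g⁻¹) (by
    rw [MonObj.mul_comp, MonObj.mul_comp, GrpObj.inv_comp, Category.assoc,
      Sga3B.KerGrp.kerι_comp, MonObj.comp_one, _root_.mul_one, mul_inv_cancel])
  exact ⟨n', hn'.symm⟩

/-- The target of a flat surjective homomorphism from an affine group is affine. -/
theorem isAffine_of_flat_surjective {G H : Over (Spec (CommRingCat.of k))} [GrpObj G] [GrpObj H]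
    [IsAffine G.left] [LocallyOfFiniteType G.hom] [LocallyOfFiniteType H.hom]
    (f : G ⟶ H) [IsMonHom f] [Flat f.left] [Surjective f.left] :
    IsAffine H.left := by
  obtain ⟨_, _⟩ := Sga3B.KerGrp.exists_grpObj f
  have hsep := Books.AntiAffine.isSeparated_hom H
  have hcG : QuasiCompact G.hom := inferInstance
  have hcH : QuasiCompact H.hom := by
    have h1 : CompactSpace G.left := inferInstance
    have h2 : CompactSpace H.left := ⟨by
      rw [← Set.image_univ_of_surjective ‹Surjective f.left›.surj]
      exact isCompact_univ.image f.left.continuous⟩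
    infer_instance
  obtain ⟨Q, _, q, _, hQaff, _, _, _, hker⟩ := S3278.result k G (Sga3B.KerGrp.kerObj f)
    (Sga3B.KerGrp.kerι f) (isNormalHom_kerι f)
  have hcQ : QuasiCompact Q.hom := inferInstance
  have hkerf : AlgGrp.IsKernel (Sga3B.KerGrp.kerι f) f := Sga3B.KerGrp.isPullback_ker f
  obtain ⟨a, -, ha, -⟩ := S3280.result k G _ Q H q _ hker f hkerf.w
  obtain ⟨b, -, hb, -⟩ := S3280.result k G _ H Q f _ hkerf q hker.w
  obtain ⟨c, -, -, hc⟩ := S3280.result k G _ H H f _ hkerf f hkerf.w
  obtain ⟨d, -, -, hd⟩ := S3280.result k G _ Q Q q _ hker q hker.w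
  have h1 : b ≫ a = 𝟙 H := by
    rw [hc (b ≫ a) (by rw [← Category.assoc, hb, ha]), hc (𝟙 H) (Category.comp_id _)]
  have h2 : a ≫ b = 𝟙 Q := by
    rw [hd (a ≫ b) (by rw [← Category.assoc, ha, hb]), hd (𝟙 Q) (Category.comp_id _)]
  have h3 : IsIso b.left := ⟨a.left, by rw [← Over.comp_left, h1]; rfl,
    by rw [← Over.comp_left, h2]; rfl⟩
  exact IsAffine.of_isIso b.left

/-- Image of a homomorphism from a smooth group. -/
theorem exists_image {G H : Over (Spec (CommRingCat.of k))} [GrpObj G] [GrpObj H]
    [Smooth G.hom] [LocallyOfFiniteType H.hom] (f : G ⟶ H) [IsMonHom f]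
    [QuasiCompact f.left] :
    ∃ (C : Over (Spec (CommRingCat.of k))) (_ : GrpObj C) (p : G ⟶ C) (i : C ⟶ H),
      IsMonHom p ∧ IsMonHom i ∧ p ≫ i = f ∧ Flat p.left ∧ Surjective p.left ∧
      LocallyOfFinitePresentation p.left ∧ IsClosedImmersion i.left ∧ Smooth C.hom ∧
      (ConnectedSpace G.left → ConnectedSpace C.left) ∧ (IsAffine G.left → IsAffine C.left) := by
  have hN : Flat (pullback.snd f.left (η[H] : 𝟙_ (Over (Spec (CommRingCat.of k))) ⟶ H).left) := by
    change Flat (Y := Spec (CommRingCat.of k)) (pullback.snd f.left _)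
    infer_instance
  obtain ⟨C, _, p, i, hp, hi, hpi, hfl, hsurj, hlfp, hcl⟩ := S3034.result k G H f hN
  have hlft : LocallyOfFiniteType C.hom := by
    rw [← Over.w i]; infer_instance
  refine ⟨C, inferInstance, p, i, hp, hi, hpi, hfl, hsurj, hlfp, hcl,
    smooth_of_flat_surjective p, fun h => ?_, fun h => isAffine_of_flat_surjective p⟩
  exact hsurj.surj.connectedSpace p.left.continuous

/-- Dimension of the image under a homomorphism with finite kernel. -/
theorem isFinite_of_comp {G C H : Over (Spec (CommRingCat.of k))} [GrpObj H]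
    (p : G ⟶ C) (i : C ⟶ H) [IsFinite (p ≫ i).left] [IsSeparated i.left] : IsFinite p.left := by
  have h : IsFinite (p.left ≫ i.left) := by rw [← Over.comp_left]; infer_instance
  exact MorphismProperty.of_postcomp @IsFinite (W' := @IsSeparated) p.left i.left inferInstance h

theorem krullDim_eq_of_isFinite {X Y : Scheme.{u}} (f : X ⟶ Y) [IsFinite f] [Surjective f] :
    topologicalKrullDim X = topologicalKrullDim Y :=
  Sga3C.DimTop.topologicalKrullDim_eq_of_isIntegralHom f

section AlgClosed

variable {K : Type u} [Field K] [IsAlgClosed K]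

/-- A homomorphism to a connected group whose restriction to the neutral component has open
image: the reduced neutral component of the source surjects onto a smooth connected target. -/
theorem exists_redIdComp_surjective {W V : Over (Spec (CommRingCat.of K))} [GrpObj W] [GrpObj V]
    [LocallyOfFiniteType W.hom] (g : W ⟶ V) [IsMonHom g] [QuasiCompact g.left]
    [Surjective g.left] [Smooth V.hom] [ConnectedSpace V.left] :
    ∃ (N : Over (Spec (CommRingCat.of K))) (_ : GrpObj N) (n : N ⟶ W),
      IsMonHom n ∧ IsClosedImmersion n.left ∧ Smooth N.hom ∧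
      ConnectedSpace N.left ∧ Surjective (n ≫ g).left ∧
      Set.range n.left = connectedComponent (Books.AlgPts.pt η[W]) := by
  have hVred : IsReduced V.left := Books.AlgPtsSmooth.isReduced_of_smooth V
  have hfl : Flat g.left := flat_of_surjective g
  obtain ⟨N, _, n, _, hncl, hnsm, hncon, hrange⟩ := Sga3B.RedIdComp.exists_redIdComp W
  obtain ⟨N0, _, i0, _, hcl0, hfl0, hr0⟩ := S3023.result K W
  have hr : Set.range n.left = Set.range i0.left := by
    rw [hrange]; exact (hr0 _).symm
  refine ⟨N, inferInstance, n, inferInstance, inferInstance, inferInstance, inferInstance, ?_,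
    hrange⟩
  have hlf0 : LocallyOfFinitePresentation i0.left := by
    have hln : IsLocallyNoetherian W.left := LocallyOfFiniteType.isLocallyNoetherian W.hom
    infer_instance
  have hlfg : LocallyOfFinitePresentation g.left := by
    have hln : IsLocallyNoetherian V.left := LocallyOfFiniteType.isLocallyNoetherian V.hom
    have h1 : LocallyOfFiniteType (g.left ≫ V.hom) := by rw [Over.w]; infer_instance
    have h2 : LocallyOfFiniteType g.left := locallyOfFiniteType_of_comp g.left V.hom
    infer_instance
  have hopen : IsOpen (Set.range (n ≫ g).left) := by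
    have h1 : Set.range (n ≫ g).left = Set.range (i0.left ≫ g.left) := by
      rw [Over.comp_left, Scheme.Hom.comp_base, Scheme.Hom.comp_base, TopCat.coe_comp,
        TopCat.coe_comp, Set.range_comp, Set.range_comp]
      exact congrArg (fun s => g.left '' s) hr
    rw [h1]
    exact (i0.left ≫ g.left).isOpenMap.isOpen_range
  have hclosed : IsClosed (Set.range (n ≫ g).left) := by
    have hqc : QuasiCompact (n ≫ g).left := by rw [Over.comp_left]; infer_instance
    obtain ⟨C, _, p, i, _, _, hpi, _, hps, _, hicl, -⟩ := exists_image (n ≫ g)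
    rw [← hpi, Over.comp_left, Scheme.Hom.comp_base, TopCat.coe_comp, Set.range_comp,
      Set.range_eq_univ.2 hps.surj, Set.image_univ]
    exact i.left.isClosedEmbedding.isClosed_range
  constructor
  rw [← Set.range_eq_univ]
  exact IsClopen.eq_univ ⟨hclosed, hopen⟩ (Set.range_nonempty _)

/-- **Preimage of a smooth connected subgroup** under a surjective homomorphism: the reduced
neutral component of the preimage surjects onto it. -/
theorem exists_preimage {G H V : Over (Spec (CommRingCat.of K))} [GrpObj G] [GrpObj H] [GrpObj V]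
    [LocallyOfFiniteType G.hom] (f : G ⟶ H) [IsMonHom f]
    [QuasiCompact f.left]
    [Surjective f.left] (v : V ⟶ H) [IsMonHom v] [IsClosedImmersion v.left] [Smooth V.hom]
    [ConnectedSpace V.left] :
    ∃ (N : Over (Spec (CommRingCat.of K))) (_ : GrpObj N) (n : N ⟶ G) (p : N ⟶ V),
      IsMonHom n ∧ IsMonHom p ∧ p ≫ v = n ≫ f ∧ IsClosedImmersion n.left ∧ Smooth N.hom ∧
      ConnectedSpace N.left ∧ Surjective p.left := by
  have hm : Mono v := Books.AlgPtsGrp.mono_of_isClosedImmersion v
  obtain ⟨_, _, _⟩ := PreimGrp.exists_grpObj f v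
  have hcl : IsClosedImmersion (PreimGrp.preι f v).left :=
    inferInstanceAs (IsClosedImmersion (pullback.fst f.left v.left))
  have hlft : LocallyOfFiniteType (PreimGrp.preObj f v).hom :=
    inferInstanceAs (LocallyOfFiniteType (pullback.fst f.left v.left ≫ G.hom))
  have hs : Surjective (PreimGrp.preπ f v).left :=
    inferInstanceAs (Surjective (pullback.snd f.left v.left))
  have hq : QuasiCompact (PreimGrp.preπ f v).left :=
    inferInstanceAs (QuasiCompact (pullback.snd f.left v.left))
  obtain ⟨N, _, n, _, hncl, hnsm, hncon, hsurj, -⟩ :=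
    exists_redIdComp_surjective (PreimGrp.preπ f v)
  refine ⟨N, inferInstance, n ≫ PreimGrp.preι f v, n ≫ PreimGrp.preπ f v, inferInstance,
    inferInstance, ?_, ?_, hnsm, hncon, hsurj⟩
  · rw [Category.assoc, Category.assoc, PreimGrp.condition]
  · rw [Over.comp_left]; infer_instance

end AlgClosed

end Groth.Agent.AlgGrp.K411.HomKit
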