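import Groth.Agent.Sga3B.DimFib

/-!
# Dimensions of the base changes of a scheme along the points of the base

* `dim_bc_field`: `dim X_f = dim` of the fibre of `X`, for `f : Spec κ ⟶ S` a point with values in a field;
* `dim_bc_eq`: the dimension of the base change of a flat group scheme of finite presentation along
  field-valued points of a connected base is constant.
-/

set_option autoImplicit false
open CategoryTheory MonoidalCategory CartesianMonoidalCategory MonObj GrpObj AlgebraicGeometry Limits
universe u

namespace Groth.Agent.AlgGrp.K411.DimPt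

variable {S : Scheme.{u}}

theorem dim_bc_field (X : Over S) [LocallyOfFiniteType X.hom] {κ : Type u} [Field κ]
    (f : Spec (CommRingCat.of κ) ⟶ S) :
    topologicalKrullDim ↥(Red.bc f X).left =
      topologicalKrullDim ↥(X.hom.base ⁻¹' {f (IsLocalRing.closedPoint κ)}) := by
  let s : S := f (IsLocalRing.closedPoint κ)
  let b : Spec (CommRingCat.of κ) ⟶ Spec (S.residueField s) :=
    Spec.map (S.descResidueField (Scheme.stalkClosedPointTo f))
  have hb : b ≫ S.fromSpecResidueField s = f :=
    Scheme.descResidueField_stalkClosedPointTo_fromSpecResidueField κ S f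
  refine Eq.trans ?_ (S3022.dim_fiber X.hom s)
  have sq1 : IsPullback (pullback.fst X.hom (S.fromSpecResidueField s))
      (pullback.snd X.hom (S.fromSpecResidueField s)) X.hom (S.fromSpecResidueField s) :=
    IsPullback.of_hasPullback _ _
  have sq2 : IsPullback (pullback.fst X.hom f) (pullback.snd X.hom f) X.hom f :=
    IsPullback.of_hasPullback _ _
  have sq3 : IsPullback (sq1.lift (pullback.fst X.hom f) (pullback.snd X.hom f ≫ b)
      (by rw [Category.assoc, hb]; exact sq2.w))
      (pullback.snd X.hom f) (pullback.snd X.hom (S.fromSpecResidueField s)) b := by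
    refine IsPullback.of_right (t := sq1) ?_ (by simp)
    rw [IsPullback.lift_fst, hb]
    exact sq2
  have h0 : LocallyOfFiniteType (pullback.snd X.hom (S.fromSpecResidueField s)) :=
    MorphismProperty.pullback_snd _ _ ‹LocallyOfFiniteType X.hom›
  exact @Sga3B.DimFib.topologicalKrullDim_baseChange_eq (S.residueField s) (CommRingCat.of κ)
    (Field.toIsField _) (Field.toIsField _) _ _ _ h0 _ _ _ sq3

/-- the dimension of the fibres of a flat group scheme of finite presentation over a connected base -/
theorem dim_bc_eq [PreconnectedSpace S] (G : Over S) [GrpObj G] [Flat G.hom]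
    [LocallyOfFinitePresentation G.hom] {κ κ' : Type u} [Field κ] [Field κ']
    (f : Spec (CommRingCat.of κ) ⟶ S) (f' : Spec (CommRingCat.of κ') ⟶ S) :
    topologicalKrullDim ↥(Red.bc f G).left = topologicalKrullDim ↥(Red.bc f' G).left := by
  rw [dim_bc_field, dim_bc_field]
  exact (S3022.result S G).apply_eq_of_preconnectedSpace _ _

end Groth.Agent.AlgGrp.K411.DimPt
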