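import Groth.Agent.Sga7.H116.L1
import Groth.Agent.AlgGrp.K411.Bc
import Groth.Agent.AlgGrp.K411.WordDens
import Groth.Agent.Sga3C.SchemImage
import Groth.Prelude.Def_AlgGrp
import Mathlib.RingTheory.Flat.TorsionFree

/-!
# Subgroups and schematically dense base changes; the schematic closure of a subgroup of the generic fibre

* `factors_iff_map`: for a closed immersion `i : N ⟶ G` and a quasi-compact schematically dominant
  `f : S' ⟶ S`, a morphism from a flat `S`-scheme to `G` factors through `i` if and only if its base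
  change does;
* `exists_grpObj`: `N` flat and `N_{S'}` a subgroup of `G_{S'}`: `N` is a subgroup of `G`;
* `isNormalHom_of_dominant`, `isNormalHom_bc`, `commutator_of_dominant`, `commutator_bc`;
* `exists_closure`: over a Dedekind domain, a closed subgroup of the generic fibre is the generic fibre
  of a flat closed subgroup scheme.
-/

set_option autoImplicit false
universe u
open CategoryTheory MonoidalCategory CartesianMonoidalCategory MonObj GrpObj AlgebraicGeometry
open CategoryTheory.Limits

namespace Groth.Agent.AlgGrp.K411.GenClos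

open Groth.Agent.Sga7.H116.L1 Groth.Agent.Sga3C.SchemImage

section Bc

variable {S S' : Scheme.{u}} (f : S' ⟶ S)

/-- A morphism to `G` factors through `i : N ⟶ G` if and only if its transpose factors through the
base change of `i`. -/
lemma factors_iff (X : Over S') {N G : Over S} (i : N ⟶ G) (a : (Over.map f).obj X ⟶ G) :
    (∃ b : (Over.map f).obj X ⟶ N, b ≫ i = a) ↔
      ∃ b : X ⟶ (Over.pullback f).obj N, b ≫ (Over.pullback f).map i =
        (Over.mapPullbackAdj f).homEquiv X G a := by
  constructor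
  · rintro ⟨b, rfl⟩
    exact ⟨(Over.mapPullbackAdj f).homEquiv X N b,
      ((Over.mapPullbackAdj f).homEquiv_naturality_right b i).symm⟩
  · rintro ⟨b, hb⟩
    refine ⟨((Over.mapPullbackAdj f).homEquiv X N).symm b, ?_⟩
    rw [← (Over.mapPullbackAdj f).homEquiv_naturality_right_symm, hb, Equiv.symm_apply_apply]

/-- For a closed immersion `i : N ⟶ G`, a morphism from a flat `S`-scheme to `G` factors through `i`
if its base change along a quasi-compact schematically dominant morphism does. -/
theorem factors_iff_map [QuasiCompact f] [IsSchemeTheoreticallyDominant f] {P N G : Over S}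
    [Flat P.hom] (i : N ⟶ G) [IsClosedImmersion i.left] (δ : P ⟶ G) :
    (∃ b : P ⟶ N, b ≫ i = δ) ↔
      ∃ b : (Over.pullback f).obj P ⟶ (Over.pullback f).obj N,
        b ≫ (Over.pullback f).map i = (Over.pullback f).map δ := by
  constructor
  · rintro ⟨b, rfl⟩
    exact ⟨(Over.pullback f).map b, ((Over.pullback f).map_comp b i).symm⟩
  · rintro ⟨b, hb⟩
    have hcl : ((Over.mapPullbackAdj f).counit.app P).left = pullback.fst P.hom f := by simp
    have hdom : IsSchemeTheoreticallyDominant ((Over.mapPullbackAdj f).counit.app P).left := by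
      rw [hcl]; infer_instance
    refine exists_lift_over ((Over.mapPullbackAdj f).counit.app P) δ i
      (((Over.mapPullbackAdj f).homEquiv _ N).symm b) ?_
    rw [← (Over.mapPullbackAdj f).homEquiv_naturality_right_symm, hb,
      Adjunction.homEquiv_counit]
    exact (Over.mapPullbackAdj f).counit.naturality δ

end Bc

section Grp

variable {S S' : Scheme.{u}} (f : S' ⟶ S) {G : Over S} [GrpObj G] {N : Over S} (i : N ⟶ G)

/-- **Subgroups descend** along schematically dense base changes: a flat closed subscheme of `G` which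
becomes a subgroup is a subgroup. -/
theorem exists_grpObj [QuasiCompact f] [IsSchemeTheoreticallyDominant f] [Flat N.hom]
    [IsClosedImmersion i.left] {H : Over S'} [GrpObj H] (j : H ⟶ Red.bc f G) [IsMonHom j]
    (e : (Over.pullback f).obj N ≅ H) (he : e.hom ≫ j = (Over.pullback f).map i) :
    ∃ (_ : GrpObj N), IsMonHom i := by
  have him : Mono i := (Over.forget _).mono_of_mono_map (inferInstanceAs (Mono i.left))
  have key : ∀ {P : Over S} [Flat P.hom] (δ : P ⟶ G),
      (∃ b : (Over.pullback f).obj P ⟶ H, b ≫ j = (Over.pullback f).map δ) → ∃ b : P ⟶ N, b ≫ i = δ := by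
    rintro P _ δ ⟨b, hb⟩
    refine (factors_iff_map f i δ).2 ⟨b ≫ e.inv, ?_⟩
    rw [← he, Category.assoc, Iso.inv_hom_id_assoc, hb]
  have hflat : Flat (N ⊗ N).hom := by rw [Over.tensorObj_hom]; infer_instance
  have hflat1 : Flat (𝟙_ (Over S)).hom := inferInstanceAs (Flat (𝟙 S))
  have hone : ∃ a : 𝟙_ (Over S) ⟶ N, a ≫ i = η[G] := by
    refine key _ ⟨1, ?_⟩
    rw [MonObj.one_comp, MonObj.one_eq_one, Functor.map_one]
  have hmul : ∃ m : N ⊗ N ⟶ N, m ≫ i = (i ⊗ₘ i) ≫ μ[G] := by
    refine key _ ⟨((Over.pullback f).map (fst N N) ≫ e.hom) *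
      ((Over.pullback f).map (snd N N) ≫ e.hom), ?_⟩
    have h1 : (i ⊗ₘ i) ≫ μ[G] = (fst N N ≫ i) * (snd N N ≫ i) := by
      rw [Hom.mul_def]
      congr 1
    rw [h1, Functor.map_mul, MonObj.mul_comp, Category.assoc, Category.assoc, he, Functor.map_comp,
      Functor.map_comp]
  have hinv : ∃ w : N ⟶ N, w ≫ i = i ≫ ι[G] := by
    refine key _ ⟨e.hom⁻¹, ?_⟩
    have h2 : i ≫ ι[G] = i⁻¹ := (Hom.inv_def _).symm
    rw [h2, Functor.map_inv', GrpObj.inv_comp, he]
  exact Sga3C.SubGrp.exists_grpObj_of_mono i hmul hone hinv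

/-- The containment of all commutators of points. -/
def HasComm {S : Scheme.{u}} {G : Over S} [GrpObj G] {N : Over S} (i : N ⟶ G) : Prop :=
  ∀ (T : Over S) (g h : T ⟶ G), ∃ m : T ⟶ N, g * h * g⁻¹ * h⁻¹ = m ≫ i

lemma hasComm_iff : HasComm i ↔
    ∃ m : G ⊗ G ⟶ N, fst G G * snd G G * (fst G G)⁻¹ * (snd G G)⁻¹ = m ≫ i := by
  refine ⟨fun h => h _ _ _, ?_⟩
  rintro ⟨m, hm⟩ T g h
  refine ⟨lift g h ≫ m, ?_⟩
  rw [Category.assoc, ← hm, MonObj.comp_mul, MonObj.comp_mul, MonObj.comp_mul, GrpObj.comp_inv,
    GrpObj.comp_inv, lift_fst, lift_snd]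

lemma isNormalHom_iff [GrpObj N] : AlgGrp.IsNormalHom i ↔
    ∃ m : G ⊗ N ⟶ N, fst G N * (snd G N ≫ i) * (fst G N)⁻¹ = m ≫ i := by
  refine ⟨fun h => h _ _ _, ?_⟩
  rintro ⟨m, hm⟩ T g n
  refine ⟨lift g n ≫ m, ?_⟩
  rw [Category.assoc, ← hm, MonObj.comp_mul, MonObj.comp_mul, GrpObj.comp_inv,
    lift_fst, lift_snd_assoc]

/-- Containment of commutators extends from a schematically dense base change. -/
theorem hasComm_of_dominant [QuasiCompact f] [IsSchemeTheoreticallyDominant f] [Flat G.hom]
    [IsClosedImmersion i.left] (h : HasComm (G := Red.bc f G) ((Over.pullback f).map i)) :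
    HasComm i := by
  have hflat : Flat (G ⊗ G).hom := by rw [Over.tensorObj_hom]; infer_instance
  rw [hasComm_iff]
  obtain ⟨m, hm⟩ := h _ ((Over.pullback f).map (fst G G)) ((Over.pullback f).map (snd G G))
  obtain ⟨b, hb⟩ := (factors_iff_map f i (fst G G * snd G G * (fst G G)⁻¹ * (snd G G)⁻¹)).2
    ⟨m, by rw [← hm, Functor.map_mul, Functor.map_mul, Functor.map_mul, Functor.map_inv',
      Functor.map_inv']⟩
  exact ⟨b, hb.symm⟩

/-- Normality extends from a schematically dense base change. -/
theorem isNormalHom_of_dominant [GrpObj N] [QuasiCompact f] [IsSchemeTheoreticallyDominant f]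
    [Flat G.hom] [Flat N.hom] [IsClosedImmersion i.left]
    (h : AlgGrp.IsNormalHom (N := Red.bc f N) (G := Red.bc f G) ((Over.pullback f).map i)) :
    AlgGrp.IsNormalHom i := by
  have hflat : Flat (G ⊗ N).hom := by rw [Over.tensorObj_hom]; infer_instance
  rw [isNormalHom_iff]
  obtain ⟨m, hm⟩ := h _ ((Over.pullback f).map (fst G N)) ((Over.pullback f).map (snd G N))
  obtain ⟨b, hb⟩ := (factors_iff_map f i (fst G N * (snd G N ≫ i) * (fst G N)⁻¹)).2
    ⟨m, by rw [← hm, Functor.map_mul, Functor.map_mul, Functor.map_comp, Functor.map_inv']⟩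
  exact ⟨b, hb.symm⟩

variable {i} in
theorem hasComm_bc (h : HasComm i) : HasComm (G := Red.bc f G) ((Over.pullback f).map i) := by
  intro T a b
  obtain ⟨a', rfl⟩ := (Sga3B.BcPts.bcMulEquiv f T G).surjective a
  obtain ⟨b', rfl⟩ := (Sga3B.BcPts.bcMulEquiv f T G).surjective b
  obtain ⟨m, hm⟩ := h _ a' b'
  refine ⟨Sga3B.BcPts.bcEquiv f T N m, ?_⟩
  rw [← map_mul, ← map_inv, ← map_mul, ← map_inv, ← map_mul, hm]
  exact Sga3B.BcPts.bcEquiv_comp f m i

variable {i} in
theorem isNormalHom_bc [GrpObj N] (h : AlgGrp.IsNormalHom i) :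
    AlgGrp.IsNormalHom (N := Red.bc f N) (G := Red.bc f G) ((Over.pullback f).map i) := by
  intro T a b
  obtain ⟨a', rfl⟩ := (Sga3B.BcPts.bcMulEquiv f T G).surjective a
  obtain ⟨b', rfl⟩ := (Sga3B.BcPts.bcEquiv f T N).surjective b
  obtain ⟨m, hm⟩ := h _ a' b'
  refine ⟨Sga3B.BcPts.bcEquiv f T N m, ?_⟩
  have h1 : Sga3B.BcPts.bcEquiv f T N b' ≫ (Over.pullback f).map i =
      Sga3B.BcPts.bcMulEquiv f T G (b' ≫ i) := (Sga3B.BcPts.bcEquiv_comp f b' i).symm
  rw [h1, ← map_mul, ← map_inv, ← map_mul, hm]
  exact Sga3B.BcPts.bcEquiv_comp f m i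

end Grp

section Iso

variable {S : Scheme.{u}} {G G' : Over S} [GrpObj G] [GrpObj G'] {N N' : Over S}

/-- Transport of the containment of commutators. -/
lemma HasComm.of_iso {i : N ⟶ G} {i' : N' ⟶ G'} (e : N ⟶ N') (ε : G ≅ G') [IsMonHom ε.hom]
    (he : e ≫ i' = i ≫ ε.hom) (h : HasComm i) : HasComm i' := by
  intro T a b
  obtain ⟨m, hm⟩ := h T (a ≫ ε.inv) (b ≫ ε.inv)
  refine ⟨m ≫ e, ?_⟩
  have h1 := congrArg (· ≫ ε.hom) hm
  simp only [MonObj.mul_comp, GrpObj.inv_comp, Category.assoc, Iso.inv_hom_id, Category.comp_id] at h1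
  rw [h1, Category.assoc, he]

/-- Transport of normality. -/
lemma isNormalHom_of_iso [GrpObj N] [GrpObj N'] {i : N ⟶ G} {i' : N' ⟶ G'} (e : N ≅ N') (ε : G ≅ G')
    [IsMonHom ε.hom] (he : e.hom ≫ i' = i ≫ ε.hom) (h : AlgGrp.IsNormalHom i) :
    AlgGrp.IsNormalHom i' := by
  intro T a b
  obtain ⟨m, hm⟩ := h T (a ≫ ε.inv) (b ≫ e.inv)
  refine ⟨m ≫ e.hom, ?_⟩
  have h1 := congrArg (· ≫ ε.hom) hm
  simp only [MonObj.mul_comp, GrpObj.inv_comp, Category.assoc, Iso.inv_hom_id, Category.comp_id,
    ← he] at h1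
  rw [Iso.inv_hom_id_assoc] at h1
  rw [h1, Category.assoc]

end Iso

section Closure

/-- A closed subscheme of the base change of `Y` along a flat quasi-compact monomorphism `g` is the base
change of its schematic closure in `Y`. -/
theorem isPullback_image {S T X Y : Scheme.{u}} (g : T ⟶ S) [Flat g] [Mono g] [QuasiCompact g]
    (y : Y ⟶ S) (p : X ⟶ T) (j : X ⟶ Y) (hj : j ≫ y = p ≫ g)
    [IsClosedImmersion (pullback.lift j p hj)] :
    IsPullback j.toImage p (j.imageι ≫ y) g := by
  have hqc : QuasiCompact j := by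
    rw [← pullback.lift_fst j p hj]
    infer_instance
  have hw : j.toImage ≫ j.imageι ≫ y = p ≫ g := by
    rw [Scheme.Hom.toImage_imageι_assoc, hj]
  have hdom : IsSchemeTheoreticallyDominant j.toImage := dominant_toImage j
  let c : X ⟶ pullback (j.imageι ≫ y) g := pullback.lift j.toImage p hw
  have hc1 : c ≫ pullback.fst (j.imageι ≫ y) g = j.toImage := pullback.lift_fst _ _ _
  have hc2 : c ≫ pullback.snd (j.imageι ≫ y) g = p := pullback.lift_snd _ _ _
  have hmono : Mono (pullback.fst (j.imageι ≫ y) g) := inferInstance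
  have hsq : IsPullback (𝟙 X) c j.toImage (pullback.fst (j.imageι ≫ y) g) := by
    refine ⟨⟨by rw [Category.id_comp, hc1]⟩, ⟨PullbackCone.IsLimit.mk _ (fun s => s.fst) ?_ ?_ ?_⟩⟩
    · intro s; simp
    · intro s
      rw [← cancel_mono (pullback.fst (j.imageι ≫ y) g), Category.assoc, hc1, s.condition]
    · intro s m h1 h2
      simpa using h1
  have hcdom : IsSchemeTheoreticallyDominant c := .of_isPullback hsq
  let d : pullback (j.imageι ≫ y) g ⟶ pullback y g :=
    pullback.lift (pullback.fst _ _ ≫ j.imageι) (pullback.snd _ _) (by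
      rw [Category.assoc, pullback.condition])
  have hd1 : d ≫ pullback.fst y g = pullback.fst _ _ ≫ j.imageι := pullback.lift_fst _ _ _
  have hd2 : d ≫ pullback.snd y g = pullback.snd _ _ := pullback.lift_snd _ _ _
  have hdsq : IsPullback (pullback.fst (j.imageι ≫ y) g) d j.imageι (pullback.fst y g) := by
    refine IsPullback.of_bot ?_ hd1.symm (IsPullback.of_hasPullback y g)
    rw [hd2]
    exact IsPullback.of_hasPullback (j.imageι ≫ y) g
  have hdci : IsClosedImmersion d := MorphismProperty.of_isPullback hdsq inferInstance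
  have hcd : c ≫ d = pullback.lift j p hj := by
    apply pullback.hom_ext
    · rw [Category.assoc, hd1, reassoc_of% hc1, Scheme.Hom.toImage_imageι, pullback.lift_fst]
    · rw [Category.assoc, hd2, hc2, pullback.lift_snd]
  have hcci : IsClosedImmersion c := by
    have : IsClosedImmersion (c ≫ d) := by rw [hcd]; infer_instance
    exact IsClosedImmersion.of_comp_isClosedImmersion c d
  have hciso : IsIso c := IsClosedImmersion.isIso_iff_ker_eq_bot.mpr hcdom.ker_eq_bot
  exact IsPullback.of_iso_pullback ⟨hw⟩ (asIso c) hc1 hc2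

/-- Torsion-free modules over `R` are flat. -/
def FlatTF (R : Type u) [CommRing R] : Prop :=
  ∀ (M : Type u) [AddCommGroup M] [Module R M] [Module.IsTorsionFree R M], Module.Flat R M

theorem flatTF_dedekind (R : Type u) [CommRing R] [IsDomain R] [IsDedekindRing R] : FlatTF R := by
  intro M _ _ _
  have : IsDedekindDomain R := {}
  infer_instance

theorem flatTF_bezout (R : Type u) [CommRing R] [IsDomain R] [IsBezout R] : FlatTF R := by
  intro M _ _ _
  rw [Module.Flat.flat_iff_torsion_eq_bot_of_isBezout]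
  exact Submodule.isTorsionFree_iff_torsion_eq_bot.mp inferInstance

/-- Over a domain whose torsion-free modules are flat, a scheme which receives a schematically dominant
morphism from a scheme over the fraction field is flat. -/
theorem flat_of_schemeDominant_of {R : Type u} [CommRing R] [IsDomain R] (hR : FlatTF R) {K : Type u}
    [Field K] [Algebra R K] [IsFractionRing R K] {X Y : Scheme.{u}} (t : X ⟶ Y) [QuasiCompact t]
    [IsSchemeTheoreticallyDominant t] (q : Y ⟶ Spec (CommRingCat.of R)) (p : X ⟶ Spec (CommRingCat.of K))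
    (h : t ≫ q = p ≫ gen R K) : Flat q := by
  refine (IsZariskiLocalAtSource.iff_of_openCover (P := @Flat) Y.affineCover).2 fun i => ?_
  obtain ⟨A, hA⟩ : ∃ A : CommRingCat.{u}, Y.affineCover.X i = Spec A := ⟨_, rfl⟩
  have key : ∀ (A : CommRingCat.{u}) (j : Spec A ⟶ Y) [IsOpenImmersion j], Flat (j ≫ q) := by
    intro A j _
    obtain ⟨ψ, hψ⟩ := Spec.map_surjective (j ≫ q)
    rw [← hψ, Flat.SpecMap_iff]
    let _ : Algebra R A := ψ.hom.toAlgebra
    change Module.Flat R A
    let t' : pullback t j ⟶ Spec A := pullback.snd t j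
    have ht' : IsSchemeTheoreticallyDominant t' :=
      inferInstanceAs (IsSchemeTheoreticallyDominant (pullback.snd t j))
    have hinj : Function.Injective t'.appTop := t'.app_injective ⊤
    have hsq : t' ≫ Spec.map ψ = (pullback.fst t j ≫ p) ≫ gen R K := by
      rw [hψ, Category.assoc, ← h, ← pullback.condition_assoc]
    have hring : ∀ r : R, t'.appTop ((Scheme.ΓSpecIso A).inv (ψ.hom r)) =
        ((pullback.fst t j ≫ p).appTop
          ((Scheme.ΓSpecIso (CommRingCat.of K)).inv (algebraMap R K r))) := by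
      intro r
      have h1 := congrArg (fun f => f.appTop ((Scheme.ΓSpecIso (CommRingCat.of R)).inv r)) hsq
      simp only [Scheme.Hom.comp_appTop, ConcreteCategory.comp_apply] at h1
      have h2 : (Spec.map ψ).appTop ((Scheme.ΓSpecIso (CommRingCat.of R)).inv r) =
          (Scheme.ΓSpecIso A).inv (ψ.hom r) := by
        rw [← ConcreteCategory.comp_apply, ← Scheme.ΓSpecIso_inv_naturality]
        rfl
      have h3 : (gen R K).appTop ((Scheme.ΓSpecIso (CommRingCat.of R)).inv r) =
          (Scheme.ΓSpecIso (CommRingCat.of K)).inv (algebraMap R K r) := by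
        rw [← ConcreteCategory.comp_apply, ← Scheme.ΓSpecIso_inv_naturality]
        rfl
      rw [h2, h3] at h1
      rw [h1, Scheme.Hom.comp_appTop]
      rfl
    have htf : Module.IsTorsionFree R A := by
      refine .of_smul_eq_zero fun r a hra => ?_
      by_contra hcon
      push Not at hcon
      obtain ⟨hr, ha⟩ := hcon
      have hu : IsUnit (t'.appTop ((Scheme.ΓSpecIso A).inv (ψ.hom r))) := by
        rw [hring]
        refine ((IsUnit.mk0 (algebraMap R K r) ?_).map _).map _
        exact (map_ne_zero_iff _ (IsFractionRing.injective R K)).mpr hr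
      have h0 : ψ.hom r * a = 0 := hra
      have h1 : t'.appTop ((Scheme.ΓSpecIso A).inv (ψ.hom r)) *
          t'.appTop ((Scheme.ΓSpecIso A).inv a) = 0 := by
        rw [← map_mul, ← map_mul, h0, map_zero, map_zero]
      have h2 := hu.mul_right_eq_zero.mp h1
      have h3 : (Scheme.ΓSpecIso A).inv a = 0 := hinj (by rw [h2, map_zero])
      have h4 : (Scheme.ΓSpecIso A).hom ((Scheme.ΓSpecIso A).inv a) = 0 := by rw [h3, map_zero]
      rw [← ConcreteCategory.comp_apply, Iso.inv_hom_id] at h4
      exact ha h4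
    exact hR A
  rw [show Y.affineCover.f i ≫ q = eqToHom hA ≫ (eqToHom hA.symm ≫ Y.affineCover.f i) ≫ q by simp]
  have := key A (eqToHom hA.symm ≫ Y.affineCover.f i)
  infer_instance

/-- A scheme over a Dedekind domain which receives a schematically dominant morphism from a scheme over
the fraction field is flat. -/
theorem flat_of_schemeDominant {R : Type u} [CommRing R] [IsDomain R] [IsDedekindRing R] {K : Type u} [Field K]
    [Algebra R K] [IsFractionRing R K] {X Y : Scheme.{u}} (t : X ⟶ Y) [QuasiCompact t]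
    [IsSchemeTheoreticallyDominant t] (q : Y ⟶ Spec (CommRingCat.of R)) (p : X ⟶ Spec (CommRingCat.of K))
    (h : t ≫ q = p ≫ gen R K) : Flat q :=
  flat_of_schemeDominant_of (flatTF_dedekind R) t q p h

variable (R K : Type u) [CommRing R] [IsDomain R] [Field K] [Algebra R K]
  [IsFractionRing R K]

instance quasiCompact_gen : QuasiCompact (gen R K) := inferInstance

/-- **The closure of a closed subgroup of the generic fibre** over a domain whose torsion-free modules
are flat is a flat closed subgroup scheme. -/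
theorem exists_closure_of (hR : FlatTF R) (G : Over (Spec (CommRingCat.of R))) [GrpObj G]
    {H : Over (Spec (CommRingCat.of K))} [GrpObj H] (j : H ⟶ Red.bc (gen R K) G) [IsMonHom j]
    [IsClosedImmersion j.left] :
    ∃ (N : Over (Spec (CommRingCat.of R))) (_ : GrpObj N) (i : N ⟶ G)
      (e : Red.bc (gen R K) N ≅ H), IsMonHom i ∧ IsClosedImmersion i.left ∧ Flat N.hom ∧
        IsMonHom e.hom ∧ e.hom ≫ j = (Over.pullback (gen R K)).map i := by
  let jl : H.left ⟶ G.left := j.left ≫ pullback.fst G.hom (gen R K)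
  have hj2 : j.left ≫ pullback.snd G.hom (gen R K) = H.hom := Over.w j
  have hj : jl ≫ G.hom = H.hom ≫ gen R K := by
    rw [← hj2, Category.assoc, Category.assoc, pullback.condition]
  have hlift : pullback.lift jl H.hom hj = j.left := by
    apply pullback.hom_ext
    · rw [pullback.lift_fst]
    · rw [pullback.lift_snd]
      exact hj2.symm
  have hcl : IsClosedImmersion (pullback.lift jl H.hom hj) := by rw [hlift]; infer_instance
  have hpb := isPullback_image (gen R K) G.hom H.hom jl hj
  have hjqc : QuasiCompact jl := by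
    rw [← pullback.lift_fst jl H.hom hj]
    infer_instance
  let N : Over (Spec (CommRingCat.of R)) := Over.mk (jl.imageι ≫ G.hom)
  let i : N ⟶ G := Over.homMk jl.imageι rfl
  have hi : IsClosedImmersion i.left := inferInstanceAs (IsClosedImmersion jl.imageι)
  have htdom : IsSchemeTheoreticallyDominant jl.toImage := dominant_toImage jl
  have hNflat : Flat N.hom := flat_of_schemeDominant_of hR (K := K) jl.toImage N.hom H.hom hpb.w
  let e : (Over.pullback (gen R K)).obj N ≅ H := Over.isoMk hpb.isoPullback.symm (by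
    exact hpb.isoPullback_inv_snd)
  have he : e.hom ≫ j = (Over.pullback (gen R K)).map i := by
    ext1
    have h1 : e.hom.left ≫ jl.toImage = pullback.fst N.hom (gen R K) := hpb.isoPullback_inv_fst
    have h2 : e.hom.left ≫ H.hom = pullback.snd N.hom (gen R K) := hpb.isoPullback_inv_snd
    apply pullback.hom_ext
    · have h3 : ((Over.pullback (gen R K)).map i).left ≫ pullback.fst G.hom (gen R K) =
        pullback.fst N.hom (gen R K) ≫ i.left := pullback.lift_fst _ _ _
      refine Eq.trans ?_ h3.symm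
      rw [← h1]
      change (e.hom.left ≫ j.left) ≫ _ = (e.hom.left ≫ jl.toImage) ≫ jl.imageι
      rw [Category.assoc, Category.assoc, Scheme.Hom.toImage_imageι]
    · have h3 : ((Over.pullback (gen R K)).map i).left ≫ pullback.snd G.hom (gen R K) =
        pullback.snd N.hom (gen R K) := pullback.lift_snd _ _ _
      refine Eq.trans ?_ h3.symm
      change (e.hom.left ≫ j.left) ≫ _ = _
      rw [Category.assoc, hj2, h2]
  obtain ⟨hN, hmi⟩ := exists_grpObj (gen R K) i j e he
  have hjm : Mono j := (Over.forget _).mono_of_mono_map (inferInstanceAs (Mono j.left))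
  have hem : IsMonHom e.hom := by
    have h1 : IsMonHom (e.hom ≫ j) := by
      rw [he]
      exact inferInstanceAs (IsMonHom ((Over.pullback (gen R K)).map i))
    exact Sga3C.SubGrp.isMonHom_of_comp_mono e.hom j
  exact ⟨N, hN, i, e, hmi, hi, hNflat, hem, he⟩

/-- **The closure of a closed subgroup of the generic fibre** over a Dedekind domain is a flat closed
subgroup scheme. -/
theorem exists_closure [IsDedekindRing R] (G : Over (Spec (CommRingCat.of R))) [GrpObj G]
    {H : Over (Spec (CommRingCat.of K))} [GrpObj H] (j : H ⟶ Red.bc (gen R K) G) [IsMonHom j]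
    [IsClosedImmersion j.left] :
    ∃ (N : Over (Spec (CommRingCat.of R))) (_ : GrpObj N) (i : N ⟶ G)
      (e : Red.bc (gen R K) N ≅ H), IsMonHom i ∧ IsClosedImmersion i.left ∧ Flat N.hom ∧
        IsMonHom e.hom ∧ e.hom ≫ j = (Over.pullback (gen R K)).map i :=
  exists_closure_of R K (flatTF_dedekind R) G j

end Closure

end Groth.Agent.AlgGrp.K411.GenClos
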