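import Groth.Agent.AlgGrp.K398.Affin
import Groth.Agent.AlgGrp.K398.Pts
import Groth.Agent.S3036

/-!
# Anti-affine kernels, affineness and minimality
-/

set_option autoImplicit false
universe u
open CategoryTheory MonoidalCategory CartesianMonoidalCategory MonObj GrpObj AlgebraicGeometry
open CategoryTheory.Limits

namespace Groth.Agent.AlgGrp.K411.AntiMin

variable {k : Type u} [Field k]

/-- A homomorphism with trivial kernel is a monomorphism. -/
theorem mono_of_trivial_kernel {N G Q : Over (Spec (CommRingCat.of k))} [GrpObj G]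
    [GrpObj Q] (n : N ⟶ G) (q : G ⟶ Q) [IsMonHom q] (hk : AlgGrp.IsKernel n q) (hN : IsIso N.hom) :
    Mono q := by
  constructor
  intro T a b h
  obtain ⟨c, hc⟩ : ∃ c : T ⟶ N, c ≫ n = a * b⁻¹ :=
    ⟨hk.lift (a * b⁻¹) (toUnit T) (by
      rw [MonObj.mul_comp, GrpObj.inv_comp, h, mul_inv_cancel]; rfl), hk.lift_fst _ _ _⟩
  obtain ⟨e, he⟩ : ∃ e : T ⟶ N, e ≫ n = 1 :=
    ⟨hk.lift 1 (toUnit T) (by rw [MonObj.one_comp]; rfl), hk.lift_fst _ _ _⟩
  have h1 : c = e := K398.Pts.eq_of_isIso_hom hN c e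
  rw [h1, he] at hc
  exact (mul_inv_eq_one.mp hc.symm)

/-- If the anti-affine kernel is trivial, the group is affine. -/
theorem isAffine_of_trivial {N G Q : Over (Spec (CommRingCat.of k))} [GrpObj N] [GrpObj G]
    [GrpObj Q] [LocallyOfFiniteType G.hom] [QuasiCompact G.hom] (n : N ⟶ G) (q : G ⟶ Q)
    (hs : K398.Affin.IsAffSeq n q) (hN : IsIso N.hom) : IsAffine G.left := by
  have := hs.homQ
  have := hs.affine
  have := hs.ftQ
  have := hs.qc
  have hm : Mono q := mono_of_trivial_kernel n q hs.ker hN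
  have hcl : IsClosedImmersion q.left := S3036.result k G Q q
  exact isAffine_of_isAffineHom q.left

theorem isIso_appTop_of_iso {X Y : Over (Spec (CommRingCat.of k))} (e : X ⟶ Y) [IsIso e]
    (h : IsIso X.hom.appTop) : IsIso Y.hom.appTop := by
  have h1 : (CategoryTheory.inv e).left ≫ X.hom = Y.hom := Over.w _
  rw [← h1, Scheme.Hom.comp_appTop]
  have h2 : IsIso (CategoryTheory.inv e).left :=
    inferInstanceAs (IsIso ((Over.forget _).map (CategoryTheory.inv e)))
  have h3 : ∀ {A B : Scheme.{u}} (f : A ⟶ B) (_ : IsIso f), IsIso f.appTop :=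
    fun f hf => inferInstanceAs (IsIso (f.app ⊤))
  exact IsIso.comp_isIso' h (h3 _ h2)

end Groth.Agent.AlgGrp.K411.AntiMin
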