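import Groth.Agent.AlgGrp.K411.IsogWord
import Groth.Agent.Sga3B.RadOpen.PtTorus
import Groth.Agent.Sga3B.TorusIrr

/-!
# Unipotence (absence of subtori) and isogenies, over an algebraically closed field

* `hom_torus_eq_one`: homomorphisms from a torus to an affine group without subtori are trivial;
* `hasNoSubtorus_of_quasiFinite`: if `f : G ⟶ H` is quasi-finite and `H` is affine without subtori,
  then `G` has no subtori;
* `hasNoSubtorus_of_surjective`: if `f : G ⟶ H` is surjective, `G` smooth connected affine without subtori and `H`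
  is affine, then `H` has no subtori.
-/

set_option autoImplicit false
universe u
open CategoryTheory MonoidalCategory CartesianMonoidalCategory MonObj GrpObj AlgebraicGeometry
open Groth.Agent.Books.AffBridge Groth.Agent.Books.AffBridge2
open Groth.Agent.Sga3B Groth.Agent.Sga3B.RG Groth.Agent.Sga3B.RG.BrPts Groth.Agent.Sga3B.RG.BrDiag
open Groth.Agent.Sga3B.RG.BrTorus Groth.Agent.Sga3B.RG.BrRed

namespace Groth.Agent.AlgGrp.K411.IsogUnip

variable {K : Type u} [Field K]

/-- Presentation of an affine group of finite type by a Hopf algebra. -/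
theorem exists_hopf_ft (G : Over (Spec (CommRingCat.of K))) [GrpObj G] [IsAffine G.left]
    [LocallyOfFiniteType G.hom] :
    ∃ (A : Type u) (_ : CommRing A) (_ : HopfAlgebra K A) (e : G ≅ SpecOver K A),
      IsMonHom e.hom ∧ Algebra.FiniteType K A := by
  obtain ⟨A, _, _, e, he⟩ := Groth.Agent.Books.AffBridge.exists_hopf K G
  refine ⟨A, inferInstance, inferInstance, e, he, ?_⟩
  have : LocallyOfFiniteType (SpecOver K A).hom := by
    rw [hom_eq_of_iso e.symm]
    have : IsIso e.symm.hom.left := inferInstanceAs (IsIso ((Over.forget _).map e.inv))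
    infer_instance
  exact (locallyOfFiniteType_specOver_iff K A).1 inferInstance

lemma exists_equiv_fin (n : ℕ) (H : Subgroup (Multiplicative (Fin n → ℤ))) :
    ∃ m : ℕ, Nonempty (H ≃* Multiplicative (Fin m → ℤ)) := by
  let f : Additive H →+ (Fin n → ℤ) := MonoidHom.toAdditiveLeft H.subtype
  have hf : Function.Injective f.toIntLinearMap := H.subtype_injective
  have h1 : Module.Finite ℤ (Additive H) := Module.Finite.of_injective f.toIntLinearMap hf
  have h2 : Module.IsTorsionFree ℤ (Additive H) :=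
    hf.moduleIsTorsionFree _ (fun c x => map_smul f.toIntLinearMap c x)
  have h3 : Module.Free ℤ (Additive H) := inferInstance
  let b := Module.finBasis ℤ (Additive H)
  exact ⟨_, ⟨AddEquiv.toMultiplicativeRight b.equivFun.toAddEquiv⟩⟩

lemma eq_one_of_isTrivialGrp {S : Scheme.{u}} {X T G : Over S} [GrpObj T] [GrpObj G]
    (h : Red.IsTrivialGrp T) (a : X ⟶ T) (g : T ⟶ G) [IsMonHom g] : a ≫ g = 1 := by
  have h1 : IsIso T.hom := h
  have h2 : (η[T] : 𝟙_ (Over S) ⟶ T).left = inv T.hom := by
    rw [← cancel_mono T.hom, IsIso.inv_hom_id]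
    exact Over.w (η[T] : 𝟙_ (Over S) ⟶ T)
  have h3 : a = toUnit X ≫ η[T] := by
    ext1
    rw [← cancel_mono T.hom, Over.w, Over.comp_left, Category.assoc, h2, IsIso.inv_hom_id]
    exact (Over.w (toUnit X)).symm
  rw [h3, Category.assoc, IsMonHom.one_hom, one_eq_one, MonObj.comp_one]

/-- Homomorphisms from a torus to an affine group without subtori are trivial. -/
theorem hom_split_eq_one {B : Type u} [CommRing B] [HopfAlgebra K B]
    (h : Red.HasNoSubtorus K (SpecOver K B)) {n : ℕ} (φ : B →ₐc[K] KZ K n) :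
    specMap K (φ : B →ₐ[K] KZ K n) = 1 := by
  obtain ⟨ρ, hρs, hρ⟩ := RadOpen.exists_factor_imgChar φ
  obtain ⟨m, ⟨e⟩⟩ := exists_equiv_fin n (imgChar φ)
  let ε : MonoidAlgebra K (imgChar φ) ≃ₐc[K] KZ K m := MonoidAlgebra.domCongrBialgEquiv K K e
  let π : B →ₐc[K] KZ K m := (ε : MonoidAlgebra K (imgChar φ) →ₐc[K] KZ K m).comp ρ
  have hπ : Function.Surjective π := ε.surjective.comp hρs
  have hc : IsClosedImmersion (specMap K (π : B →ₐ[K] KZ K m)).left :=
    (isClosedImmersion_specMap_iff K _).2 hπ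
  have := isMonHom_specMap K π
  have hm : Mono (specMap K (π : B →ₐ[K] KZ K m)) := Books.AlgPtsGrp.mono_of_isClosedImmersion _
  have h1 := h (SpecOver K (KZ K m)) (specMap K (π : B →ₐ[K] KZ K m)) (isTorus_KZ m)
  let i : MonoidAlgebra K (imgChar φ) →ₐc[K] KZ K n :=
    MonoidAlgebra.mapDomainBialgHom K (imgChar φ).subtype
  let σ : KZ K m →ₐ[K] KZ K n :=
    (i : MonoidAlgebra K (imgChar φ) →ₐ[K] KZ K n).comp
      ((ε.symm : KZ K m →ₐc[K] MonoidAlgebra K (imgChar φ)) :
        KZ K m →ₐ[K] MonoidAlgebra K (imgChar φ))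
  have h2 : (φ : B →ₐ[K] KZ K n) = σ.comp (π : B →ₐ[K] KZ K m) := by
    refine AlgHom.ext fun b => ?_
    change φ b = i (ε.symm (ε (ρ b)))
    rw [BialgEquiv.symm_apply_apply]
    exact (hρ b).symm
  rw [h2, specMap_comp]
  exact eq_one_of_isTrivialGrp h1 _ _

variable [IsAlgClosed K]

/-- Homomorphisms from a torus to an affine group without subtori are trivial. -/
theorem hom_torus_eq_one {T H : Over (Spec (CommRingCat.of K))} [GrpObj T] [GrpObj H]
    [IsAffine H.left] (h : Red.HasNoSubtorus K H) (hT : Red.IsTorus T) (g : T ⟶ H) [IsMonHom g] :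
    g = 1 := by
  obtain ⟨B, _, _, e, he⟩ := exists_hopf K H
  have h1 := RadOpen.hasNoSubtorus_of_iso e h
  obtain ⟨n, eT, heT⟩ := isTorus_iff.1 hT
  have : IsMonHom eT.inv := inferInstance
  obtain ⟨φ, hφ⟩ := exists_bialgHom_of_isMonHom K (eT.inv ≫ g ≫ e.hom)
  have h2 := hom_split_eq_one h1 φ
  rw [hφ] at h2
  have h3 : g ≫ e.hom = 1 := by
    have := congr(eT.hom ≫ $h2)
    rw [Iso.hom_inv_id_assoc, MonObj.comp_one] at this
    exact this
  rw [← cancel_mono e.hom, h3, MonObj.one_comp]

/-- A group all of whose points are trivial is trivial. -/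
lemma isTrivialGrp_of_id_eq_one {S : Scheme.{u}} {T : Over S} [GrpObj T] (h : 𝟙 T = 1) :
    Red.IsTrivialGrp T := by
  change IsIso T.hom
  refine ⟨(η[T] : 𝟙_ (Over S) ⟶ T).left, ?_, Over.w (η[T] : 𝟙_ (Over S) ⟶ T)⟩
  have h1 : 𝟙 T = toUnit T ≫ η[T] := by rw [h, one_eq_one, MonObj.comp_one]
  have h2 := congr(($h1).left)
  rw [Over.comp_left] at h2
  rw [show T.hom = (toUnit T).left from (Over.w (toUnit T)).symm.trans (Category.comp_id _)]
  exact h2.symm

/-- If `f : G ⟶ H` is quasi-finite and `H` is affine without subtori, then `G` has no subtori. -/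
theorem hasNoSubtorus_of_quasiFinite {G H : Over (Spec (CommRingCat.of K))} [GrpObj G] [GrpObj H]
    [IsAffine H.left] (f : G ⟶ H) [IsMonHom f] [LocallyQuasiFinite f.left]
    (h : Red.HasNoSubtorus K H) : Red.HasNoSubtorus K G := by
  intro T _ j _ _ hT
  have hs := TorusAlgClosed.smooth_of_isTorus hT
  have hr : IsReduced T.left := Books.AlgPtsSmooth.isReduced_of_smooth T
  have hi : GeometricallyIrreducible T.hom := TorusIrr.geometricallyIrreducible_of_isTorus hT
  have hi2 : IrreducibleSpace T.left :=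
    GeometricallyIrreducible.irreducibleSpace_of_subsingleton T.hom
  have h1 : j ≫ f = 1 := hom_torus_eq_one h hT (j ≫ f)
  have h2 : j = 1 := IsogWord.eq_one_of_comp_eq_one f (η[T]) j h1 (by
    rw [IsMonHom.one_hom, one_eq_one])
  apply isTrivialGrp_of_id_eq_one
  rw [← cancel_mono j, Category.id_comp, MonObj.one_comp, h2]

/-- If `f : G ⟶ H` is surjective, `G` smooth connected affine without subtori and `H` is affine,
then `H` has no subtori. -/
theorem hasNoSubtorus_of_surjective {G H : Over (Spec (CommRingCat.of K))} [GrpObj G] [GrpObj H]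
    [IsAffine G.left] [Smooth G.hom] [ConnectedSpace G.left] [IsAffine H.left]
    [LocallyOfFiniteType H.hom]
    (f : G ⟶ H) [IsMonHom f] [Surjective f.left]
    (h : Red.HasNoSubtorus K G) : Red.HasNoSubtorus K H := by
  obtain ⟨A, _, _, e, he, hA⟩ := exists_hopf_ft G
  obtain ⟨B, _, _, e', he', hB⟩ := exists_hopf_ft H
  have hei : IsMonHom e.inv := inferInstance
  obtain ⟨φ, hφ⟩ := exists_bialgHom_of_isMonHom K (e.inv ≫ f ≫ e'.hom)
  have hiso : IsIso e.hom.left := inferInstanceAs (IsIso ((Over.forget _).map e.hom))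
  have hiso' : IsIso e'.hom.left := inferInstanceAs (IsIso ((Over.forget _).map e'.hom))
  have h1 : ∀ g ∈ ptsSub e.hom, IsUnip g := RadOpen.isUnip_of_hasNoSubtorus e.hom h
  refine hasNoSubtorus_of_unip e'.hom ?_
  intro y hy
  obtain ⟨y', hy'⟩ := mem_ptsSub.1 hy
  have hlft : LocallyOfFiniteType G.hom := inferInstance
  obtain ⟨x', hx'⟩ := Books.AlgPts.exists_comp_eq_of_pt_mem_range f y' (by
    rw [Set.range_eq_univ.2 ‹Surjective f.left›.surj]; trivial)
  let x : Pt K A := (ptEquiv K A).symm (x' ≫ e.hom)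
  have hx : ptEquiv K A x = x' ≫ e.hom := (ptEquiv K A).apply_symm_apply _
  have h2 : Pt.map φ x = y := by
    apply (ptEquiv K B).injective
    rw [ptEquiv_map, hx, hφ, Category.assoc, Iso.hom_inv_id_assoc, ← hy', ← hx', Category.assoc]
  rw [← h2]
  exact isUnip_map _ (h1 x (mem_ptsSub.2 ⟨x', hx.symm⟩))

end Groth.Agent.AlgGrp.K411.IsogUnip
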