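import Groth.Agent.AlgGrp.K411.HomKit
import Groth.Agent.AlgGrp.K411.IsogUnip

/-!
# Smooth connected subgroups of isogenous groups over an algebraically closed field

* `exists_subgroup_iff`: if `f : G ⟶ H` is an isogeny and `P` is a property of group schemes invariant under
  isogenies of smooth connected groups, then `G` has a smooth connected closed subgroup with `P` of dimension `≥ d`
  iff `H` does.
* `affine_iff`, `affine_hasNoSubtorus_iff`, `solvable_iff`, `nilpotent_iff`, `comm_iff`: such properties.
-/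

set_option autoImplicit false
universe u
open CategoryTheory MonoidalCategory CartesianMonoidalCategory MonObj GrpObj AlgebraicGeometry
open CategoryTheory.Limits

namespace Groth.Agent.AlgGrp.K411.IsogSub

variable {K : Type u} [Field K] [IsAlgClosed K]

/-- Invariance of a property of groups under isogenies of smooth connected groups. -/
def IsogInv (P : ∀ (U : Over (Spec (CommRingCat.of K))) [GrpObj U], Prop) : Prop :=
  ∀ (U V : Over (Spec (CommRingCat.of K))) [GrpObj U] [GrpObj V] (p : U ⟶ V) [IsMonHom p]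
    [IsFinite p.left] [Surjective p.left] [Smooth U.hom] [Smooth V.hom]
    [ConnectedSpace U.left] [ConnectedSpace V.left], P U ↔ P V

theorem exists_subgroup_iff {P : ∀ (U : Over (Spec (CommRingCat.of K))) [GrpObj U], Prop}
    (hP : IsogInv P) {G H : Over (Spec (CommRingCat.of K))} [GrpObj G] [GrpObj H]
    [LocallyOfFiniteType G.hom] [LocallyOfFiniteType H.hom] (f : G ⟶ H) [IsMonHom f]
    [IsFinite f.left] [Surjective f.left] (Q : WithBot ℕ∞ → Prop) :
    (∃ (U : Over (Spec (CommRingCat.of K))) (_ : GrpObj U) (i : U ⟶ G), IsMonHom i ∧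
      IsClosedImmersion i.left ∧ Smooth U.hom ∧ ConnectedSpace ↥U.left ∧ P U ∧
        Q (topologicalKrullDim ↥U.left)) ↔
    (∃ (U : Over (Spec (CommRingCat.of K))) (_ : GrpObj U) (i : U ⟶ H), IsMonHom i ∧
      IsClosedImmersion i.left ∧ Smooth U.hom ∧ ConnectedSpace ↥U.left ∧ P U ∧
        Q (topologicalKrullDim ↥U.left)) := by
  constructor
  · rintro ⟨U, _, i, _, _, _, hc, hPU, hd⟩
    have h1 : IsFinite (i ≫ f).left := by rw [Over.comp_left]; infer_instance
    obtain ⟨C, _, p, j, _, _, hpj, _, _, _, _, _, hcC, -⟩ := HomKit.exists_image (i ≫ f)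
    have hcC := hcC hc
    have h2 : IsFinite (p ≫ j).left := by rw [hpj]; exact h1
    have h3 : IsFinite p.left := HomKit.isFinite_of_comp p j
    refine ⟨C, inferInstance, j, inferInstance, inferInstance, inferInstance, hcC,
      (hP U C p).1 hPU, ?_⟩
    rwa [← HomKit.krullDim_eq_of_isFinite p.left]
  · rintro ⟨V, _, v, _, _, _, hc, hPV, hd⟩
    obtain ⟨N, _, n, p, _, _, hpv, _, _, _, _⟩ := HomKit.exists_preimage f v
    have h1 : IsFinite (n ≫ f).left := by rw [Over.comp_left]; infer_instance
    have h2 : IsFinite (p ≫ v).left := by rw [hpv]; exact h1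
    have h3 : IsFinite p.left := HomKit.isFinite_of_comp p v
    refine ⟨N, inferInstance, n, inferInstance, inferInstance, inferInstance, inferInstance,
      (hP N V p).2 hPV, ?_⟩
    rwa [HomKit.krullDim_eq_of_isFinite p.left]

theorem isogInv_affine : IsogInv (K := K) fun U _ => IsAffine U.left := by
  intro U V _ _ p _ _ _ _ _ _ _
  constructor
  · intro h
    have hr : IsReduced V.left := Books.AlgPtsSmooth.isReduced_of_smooth V
    have := HomKit.flat_of_surjective p
    exact HomKit.isAffine_of_flat_surjective p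
  · intro h
    exact isAffine_of_isAffineHom p.left

theorem isogInv_solvable : IsogInv (K := K) fun U _ => Red.IsSolvableGrp U := by
  intro U V _ _ p _ _ _ _ _ _ _
  exact ⟨IsogWord.isSolvableGrp_of_surjective p, IsogWord.isSolvableGrp_of_quasiFinite p⟩

theorem isogInv_nilpotent : IsogInv (K := K) fun U _ => AGF.IsNilpotentGrp U := by
  intro U V _ _ p _ _ _ _ _ _ _
  exact ⟨IsogWord.isNilpotentGrp_of_surjective p, IsogWord.isNilpotentGrp_of_quasiFinite p⟩

theorem isogInv_comm : IsogInv (K := K) fun U _ => IsCommMonObj U := by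
  intro U V _ _ p _ _ _ _ _ _ _
  exact ⟨IsogWord.isCommMonObj_of_surjective p, IsogWord.isCommMonObj_of_quasiFinite p⟩

/-- Smooth connected unipotent groups. -/
theorem isogInv_unipotent :
    IsogInv (K := K) fun U _ => IsAffine U.left ∧ Red.HasNoSubtorus K U := by
  intro U V _ _ p _ _ _ _ _ _ _
  constructor
  · rintro ⟨h1, h2⟩
    have h3 := (isogInv_affine U V p).1 h1
    exact ⟨h3, IsogUnip.hasNoSubtorus_of_surjective p h2⟩
  · rintro ⟨h1, h2⟩
    have h3 := (isogInv_affine U V p).2 h1
    exact ⟨h3, IsogUnip.hasNoSubtorus_of_quasiFinite p h2⟩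

theorem IsogInv.and {P Q : ∀ (U : Over (Spec (CommRingCat.of K))) [GrpObj U], Prop}
    (hP : IsogInv P) (hQ : IsogInv Q) : IsogInv fun U _ => P U ∧ Q U := by
  intro U V _ _ p _ _ _ _ _ _ _
  exact and_congr (hP U V p) (hQ U V p)

end Groth.Agent.AlgGrp.K411.IsogSub
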