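import Groth.Agent.AlgGrp.K411.SpecMach
import Groth.Agent.Sga3.H813.Neutral
import Groth.Agent.S3036

/-!
# Connected open and closed subgroups are unique; the neutral component of a geometric fibre
-/

set_option autoImplicit false
universe u
open CategoryTheory MonoidalCategory CartesianMonoidalCategory MonObj GrpObj AlgebraicGeometry
open CategoryTheory.Limits

namespace Groth.Agent.AlgGrp.K411.Neut

section

variable {k : Type u} [Field k] {C C' G : Over (Spec (CommRingCat.of k))} [GrpObj C] [GrpObj C']
  [GrpObj G] (c : C ⟶ G) (c' : C' ⟶ G) [IsMonHom c] [IsMonHom c'] [IsOpenImmersion c.left]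
  [IsOpenImmersion c'.left] [IsClosedImmersion c.left] [IsClosedImmersion c'.left]
  [ConnectedSpace ↥C.left] [ConnectedSpace ↥C'.left]

/-- the unit point -/
noncomputable def upt (G : Over (Spec (CommRingCat.of k))) [GrpObj G] : G.left :=
  (η[G] : 𝟙_ (Over (Spec (CommRingCat.of k))) ⟶ G).left (IsLocalRing.closedPoint k)

omit [IsOpenImmersion c'.left] [IsClosedImmersion c'.left] [ConnectedSpace ↥C'.left]
  [GrpObj C'] [IsMonHom c'] in
theorem range_eq : Set.range c.left = connectedComponent (upt G) := by
  have h1 : upt G ∈ Set.range c.left := by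
    refine ⟨upt C, ?_⟩
    rw [upt, upt, ← Scheme.Hom.comp_apply, ← Over.comp_left, IsMonHom.one_hom]
  have hcl : IsClopen (Set.range c.left) :=
    ⟨c.left.isClosedEmbedding.isClosed_range, c.left.isOpenEmbedding.isOpen_range⟩
  apply Set.Subset.antisymm
  · exact (isPreconnected_range c.left.continuous).subset_connectedComponent h1
  · exact hcl.connectedComponent_subset h1

/-- Connected open and closed subgroups are unique. -/
theorem exists_iso : ∃ e : C ≅ C', IsMonHom e.hom ∧ e.hom ≫ c' = c := by
  have hr : Set.range c.left = Set.range c'.left := by rw [range_eq c, range_eq c']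
  let e0 := IsOpenImmersion.isoOfRangeEq c.left c'.left hr
  have he0 : e0.hom ≫ c'.left = c.left := IsOpenImmersion.isoOfRangeEq_hom_fac _ _ _
  let e : C ≅ C' := Over.isoMk e0 (by rw [← Over.w c', reassoc_of% he0, Over.w c])
  have he : e.hom ≫ c' = c := by
    ext1
    exact he0
  have hm : Mono c' := (Over.forget _).mono_of_mono_map (inferInstanceAs (Mono c'.left))
  have h1 : IsMonHom (e.hom ≫ c') := by rw [he]; infer_instance
  exact ⟨e, Sga3C.SubGrp.isMonHom_of_comp_mono e.hom c', he⟩

end

/-- The neutral component of a geometric fibre of a smooth group. -/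
theorem exists_geom {S : Scheme.{u}} (G : Over S) [GrpObj G] [Smooth G.hom] :
    ∃ (G0 : Over S) (_ : GrpObj G0), Smooth G0.hom ∧ QuasiCompact G0.hom ∧
      ∀ s : S, ∃ (c : Red.geomFibre s G0 ⟶ Red.geomFibre s G), IsMonHom c ∧ IsOpenImmersion c.left ∧
        IsClosedImmersion c.left ∧ ConnectedSpace ↥(Red.geomFibre s G0).left := by
  obtain ⟨G0, hG0, u, h1, h2, h3, h4, h5, h6, h7⟩ := Sga3.H813.Neutral.exists_neutral G
  refine ⟨G0, hG0, h4, h5, fun s => ?_⟩
  let c : Red.geomFibre s G0 ⟶ Red.geomFibre s G := (Over.pullback (Red.geomPt s)).map u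
  have hc1 : IsMonHom c := inferInstanceAs (IsMonHom ((Over.pullback (Red.geomPt s)).map u))
  have hc2 : IsOpenImmersion c.left := Bc.map_left_mem (P := @IsOpenImmersion) _ u h2
  have hm : Mono c := (Over.forget _).mono_of_mono_map (inferInstanceAs (Mono c.left))
  have hft0 : LocallyOfFiniteType (Red.geomFibre s G0).hom :=
    Bc.hom_mem (P := @LocallyOfFiniteType) _ inferInstance
  have hft : LocallyOfFiniteType (Red.geomFibre s G).hom :=
    Bc.hom_mem (P := @LocallyOfFiniteType) _ inferInstance
  have hqc0 : QuasiCompact (Red.geomFibre s G0).hom := Bc.hom_mem (P := @QuasiCompact) _ h5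
  have hln : IsLocallyNoetherian (Red.geomFibre s G0).left :=
    LocallyOfFiniteType.isLocallyNoetherian (Red.geomFibre s G0).hom
  have hcs : CompactSpace (Red.geomFibre s G0).left :=
    QuasiCompact.compactSpace_of_compactSpace (Red.geomFibre s G0).hom
  have hn : IsNoetherian (Red.geomFibre s G0).left := ⟨⟩
  have hqc : QuasiCompact c.left := inferInstance
  have hirr : GeometricallyIrreducible (Red.geomFibre s G0).hom :=
    inferInstanceAs (GeometricallyIrreducible (pullback.snd G0.hom (Red.geomPt s)))
  have : IrreducibleSpace (Red.geomFibre s G0).left :=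
    GeometricallyIrreducible.irreducibleSpace_of_subsingleton (Red.geomFibre s G0).hom
  exact ⟨c, hc1, hc2, S3036.result _ _ _ c, inferInstance⟩

end Groth.Agent.AlgGrp.K411.Neut
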