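import Groth.Agent.AlgGrp.K411.SpecPair
import Groth.Agent.AlgGrp.K412.MachA
import Mathlib.RingTheory.Valuation.LocalSubring
import Mathlib.AlgebraicGeometry.ValuativeCriterion

/-!
# Closed subgroups of the geometric fibres of a group scheme under specialization

* `HasP.down`: `HasP Q d` descends along an extension of an algebraically closed field;
* `exists_valuation`: a specialization of the image of a field-valued point is realized by a valuation
  ring of the field;
* `hasP_of_specializes`: `HasP Q d` for geometric fibres is stable under specialization, for groups of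
  finite presentation over any base.
-/

set_option autoImplicit false
set_option linter.overlappingInstances false
universe u
open CategoryTheory MonoidalCategory CartesianMonoidalCategory MonObj GrpObj AlgebraicGeometry
open CategoryTheory.Limits

namespace Groth.Agent.AlgGrp.K411.SpecPair

open Groth.Agent.Sga7.H116.L1 Groth.Agent.Sga3B K412.Tower K412.Machine
open Groth.Agent.Sga3B.RedIso (und)

variable {W : MorphismProperty Scheme.{u}} [W.IsStableUnderBaseChange]
  {Q : ∀ {S : Scheme.{u}} {H G : Over S} [GrpObj H] [GrpObj G] (_ : H ⟶ G), Prop} {d : WithBot ℕ∞}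

theorem HasP.down_aux (hQ : IsSpec W @Q) {k B K κ : Type u} [CommRing k] [CommRing B] [IsDomain B]
    [Field K] [Field κ] (f : k →+* B) (g : B →+* K) (p : k →+* K) (hc : sp g ≫ sp f = sp p)
    (hg : Function.Injective g) (χ : B →+* κ) (G : Over (Spec (CommRingCat.of k))) [GrpObj G]
    (hW : W G.hom) (H : Over (Spec (CommRingCat.of K))) [GrpObj H] (i : H ⟶ Red.bc (sp p) G)
    [IsMonHom i] (hQH : Q i) (hd : topologicalKrullDim ↥H.left = d)
    (N : Over (Spec (CommRingCat.of B))) [GrpObj N]
    (ν : N ⟶ Red.bc (sp f) G) (e : Grp.mk H ≅ Grp.mk (Red.bc (sp g) N)) [IsMonHom ν]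
    [IsClosedImmersion ν.left] [Flat N.hom] [LocallyOfFinitePresentation N.hom]
    (he : (und e).hom ≫ (Over.pullback (sp g)).map ν = i ≫ (und (tower hc G)).hom) :
    HasP Q d (Red.bc (sp χ) (Red.bc (sp f) G)) := by
  have hinj : Fact (Function.Injective g) := ⟨hg⟩
  have hQ1 : Q (H := Red.bc (sp g) N) (G := Red.bc (sp g) (Red.bc (sp f) G))
      ((Over.pullback (sp g)).map ν) :=
    hQ.iso (und e) (und (tower hc G)) he hQH
  have hQν : Q ν := hQ.dom (sp g) ν (Bc.hom_mem _ hW) hQ1
  have hps : PreconnectedSpace ↥(Spec (CommRingCat.of B)) :=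
    inferInstanceAs (PreconnectedSpace (PrimeSpectrum B))
  refine ⟨Red.bc (sp χ) N, inferInstance, (Over.pullback (sp χ)).map ν,
    inferInstanceAs (IsMonHom ((Over.pullback (sp χ)).map ν)),
    Bc.map_left_mem (P := @IsClosedImmersion) _ ν ‹_›, hQ.bc _ ν hQν, ?_⟩
  rw [DimPt.dim_bc_eq N (sp χ) (sp g), ← dim_iso e, hd]

/-- `HasP Q d` descends along an extension of an algebraically closed field. -/
theorem HasP.down (hQ : IsSpec W @Q) {k K : Type u} [Field k] [IsAlgClosed k] [Field K] [Algebra k K]
    (G : Over (Spec (CommRingCat.of k))) [GrpObj G] [LocallyOfFiniteType G.hom] [QuasiCompact G.hom]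
    (hW : W G.hom) (h : HasP Q d (Red.bc (sp (algebraMap k K)) G)) : HasP Q d G := by
  obtain ⟨H, _, i, hi, hcl, hQH, hd⟩ := h
  have hsep : IsSeparated G.hom := Books.AntiAffine.isSeparated_hom G
  have hlfp : LocallyOfFinitePresentation G.hom := inferInstance
  have hlft : LocallyOfFiniteType (Red.bc (sp (algebraMap k K)) G).hom :=
    inferInstanceAs (LocallyOfFiniteType (pullback.snd G.hom (sp (algebraMap k K))))
  have hln : IsLocallyNoetherian (Red.bc (sp (algebraMap k K)) G).left :=
    LocallyOfFiniteType.isLocallyNoetherian (Red.bc (sp (algebraMap k K)) G).hom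
  have hilfp : LocallyOfFinitePresentation i.left := inferInstance
  obtain ⟨B, hB, N, _, ν, e, hν, hνcl, hfl, hNlfp, hqc, haff, he⟩ := K412.Model.exists_model G H i
  have hft : Algebra.FiniteType k B := B.fg_iff_finiteType.mp hB
  obtain ⟨χ⟩ := exists_algHom (k := k) (B := B)
  have h1 := HasP.down_aux hQ _ _ _ (K412.Model.tower_compat B) Subtype.val_injective χ.toRingHom
    G hW H i hQH hd N ν e he
  refine h1.of_iso hQ (towerId _ _ ?_ G)
  rw [sp_comp, ← sp_id]
  congr 1
  exact χ.comp_algebraMap

omit [W.IsStableUnderBaseChange] in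
/-- A specialization of the image of a field-valued point is realized by a valuation ring. -/
theorem exists_valuation {S : Scheme.{u}} {K : Type u} [Field K] (x : Spec (CommRingCat.of K) ⟶ S)
    (s' : S) (h : x (IsLocalRing.closedPoint K) ⤳ s') :
    ∃ (V : Type u) (_ : CommRing V) (_ : IsDomain V) (_ : ValuationRing V) (_ : Algebra V K)
      (_ : IsFractionRing V K) (g : Spec (CommRingCat.of V) ⟶ S), gen V K ≫ g = x ∧
        g (IsLocalRing.closedPoint V) = s' := by
  let φ : S.presheaf.stalk s' ⟶ CommRingCat.of K :=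
    S.presheaf.stalkSpecializes h ≫ Scheme.stalkClosedPointTo x
  obtain ⟨A, hA, hloc⟩ := IsLocalRing.exists_factor_valuationRing φ.hom
  let ψ : S.presheaf.stalk s' ⟶ CommRingCat.of A := CommRingCat.ofHom (φ.hom.codRestrict _ hA)
  refine ⟨A, inferInstance, inferInstance, inferInstance, inferInstance, inferInstance,
    Spec.map ψ ≫ S.fromSpecStalk s', ?_, ?_⟩
  · have h1 : ψ ≫ CommRingCat.ofHom (algebraMap A K) = φ := rfl
    rw [gen, ← Category.assoc, ← Spec.map_comp, h1, Spec.map_comp, Category.assoc,
      Scheme.SpecMap_stalkSpecializes_fromSpecStalk, Scheme.Spec_stalkClosedPointTo_fromSpecStalk]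
  · rw [Scheme.Hom.comp_apply]
    have : Spec.map ψ (IsLocalRing.closedPoint A) = IsLocalRing.closedPoint (S.presheaf.stalk s') :=
      IsLocalRing.comap_closedPoint (S := A) (φ.hom.codRestrict A.toSubring hA)
    rw [this, S.fromSpecStalk_closedPoint]

/-- A point with values in an algebraically closed field factors through the geometric point. -/
theorem exists_geomPt_factor {S : Scheme.{u}} {Ω : Type u} [Field Ω] [IsAlgClosed Ω]
    (y : Spec (CommRingCat.of Ω) ⟶ S) (s : S) (hs : y (IsLocalRing.closedPoint Ω) = s) :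
    ∃ ψ : AlgebraicClosure (S.residueField s) →+* Ω, sp ψ ≫ Red.geomPt s = y := by
  subst hs
  let c : S.residueField (y (IsLocalRing.closedPoint Ω)) ⟶ CommRingCat.of Ω :=
    S.descResidueField (Scheme.stalkClosedPointTo y)
  have hc : Spec.map c ≫ S.fromSpecResidueField _ = y :=
    Scheme.descResidueField_stalkClosedPointTo_fromSpecResidueField Ω S y
  let _ : Algebra (S.residueField (y (IsLocalRing.closedPoint Ω))) Ω := c.hom.toAlgebra
  let e : AlgebraicClosure (S.residueField (y (IsLocalRing.closedPoint Ω))) →ₐ[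
    S.residueField (y (IsLocalRing.closedPoint Ω))] Ω := IsAlgClosed.lift
  refine ⟨e.toRingHom, ?_⟩
  rw [Red.geomPt, ← Category.assoc, ← Spec.map_comp, ← CommRingCat.ofHom_comp]
  have h1 : CommRingCat.ofHom (e.toRingHom.comp
      (algebraMap (S.residueField (y (IsLocalRing.closedPoint Ω))) _)) = c := by
    ext a
    exact e.commutes a
  rw [h1, hc]

/-- **`HasP Q d` for the geometric fibres is stable under specialization.** -/
theorem hasP_of_specializes (hQ : IsSpec W @Q) {S : Scheme.{u}} (G : Over S) [GrpObj G]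
    [LocallyOfFiniteType G.hom] [QuasiCompact G.hom] (hW : W G.hom) {s s' : S} (h : s ⤳ s')
    (hs : HasP Q d (Red.geomFibre s G)) : HasP Q d (Red.geomFibre s' G) := by
  have hx : (Red.geomPt s) (IsLocalRing.closedPoint _) = s := by
    rw [Red.geomPt, Scheme.Hom.comp_apply, Scheme.fromSpecResidueField_apply]
  obtain ⟨V, _, _, _, _, _, g, hg, hgs⟩ := exists_valuation (Red.geomPt s) s' (by rwa [hx])
  have hft : LocallyOfFiniteType (Red.bc g G).hom := Bc.hom_mem _ ‹_›
  have h1 := (HasP.comp hQ hg G).1 hs
  let κ := IsLocalRing.ResidueField V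
  let Ω := AlgebraicClosure κ
  have h2 := hasP_of_flatTF V _ (GenClos.flatTF_bezout V) (Red.bc g G) hQ (Bc.hom_mem _ hW) h1
    (sp ((algebraMap κ Ω).comp (IsLocalRing.residue V)))
  have hy : (sp ((algebraMap κ Ω).comp (IsLocalRing.residue V)) ≫ g)
      (IsLocalRing.closedPoint Ω) = s' := by
    rw [Scheme.Hom.comp_apply, ← hgs]
    congr 1
    exact IsLocalRing.comap_closedPoint ((algebraMap κ Ω).comp (IsLocalRing.residue V))
  have h3 := (HasP.comp hQ rfl G).2 h2
  obtain ⟨ψ, hψ⟩ := exists_geomPt_factor _ s' hy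
  have h4 := (HasP.comp hQ hψ G).1 h3
  have hft' : LocallyOfFiniteType (Red.geomFibre s' G).hom := Bc.hom_mem _ ‹_›
  have hqc' : QuasiCompact (Red.geomFibre s' G).hom := Bc.hom_mem _ ‹_›
  let _ : Algebra (AlgebraicClosure (S.residueField s')) Ω := ψ.toAlgebra
  exact HasP.down hQ (Red.geomFibre s' G) (Bc.hom_mem _ hW) h4

end Groth.Agent.AlgGrp.K411.SpecPair
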