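import Groth.Agent.AlgGrp.K411.SpecReg
import Groth.Agent.S0406

/-!
# Closed subgroups of the fibres of a group scheme with a property relative to the group

* `SpecPair W Q`: properties `Q` of homomorphisms `i : N ⟶ G`, stable under isomorphisms and base
  change, which extend from a schematically dense base change if `i` is a closed immersion, `N` is flat
  and `W G.hom`;
* `HasP Q d G`: `G` contains a closed subgroup `i : H ⟶ G` of dimension `d` with `Q i`;
* `hasP_of_dedekind`: over a Dedekind domain, `HasP Q d` passes from the generic fibre to all points;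
* `hasP_of_regular`: the same for a regular local ring and the closed point.
-/

set_option autoImplicit false
set_option linter.overlappingInstances false
universe u
open CategoryTheory MonoidalCategory CartesianMonoidalCategory MonObj GrpObj AlgebraicGeometry
open CategoryTheory.Limits

namespace Groth.Agent.AlgGrp.K411.SpecPair

open Groth.Agent.Sga7.H116.L1 Groth.Agent.Sga3B

/-- Properties of homomorphisms of group schemes stable under isomorphisms and base change which
extend from a schematically dense base change. -/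
structure IsSpec (W : MorphismProperty Scheme.{u})
    (Q : ∀ {S : Scheme.{u}} {H G : Over S} [GrpObj H] [GrpObj G] (_ : H ⟶ G), Prop) : Prop where
  iso : ∀ {S : Scheme.{u}} {H H' G G' : Over S} [GrpObj H] [GrpObj H'] [GrpObj G] [GrpObj G']
    {i : H ⟶ G} {i' : H' ⟶ G'} (e : H ≅ H') (ε : G ≅ G') [IsMonHom e.hom] [IsMonHom ε.hom],
    e.hom ≫ i' = i ≫ ε.hom → Q i → Q i'
  bc : ∀ {S S' : Scheme.{u}} (f : S' ⟶ S) {H G : Over S} [GrpObj H] [GrpObj G] (i : H ⟶ G)
    [IsMonHom i], Q i → Q (H := Red.bc f H) (G := Red.bc f G) ((Over.pullback f).map i)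
  dom : ∀ {S S' : Scheme.{u}} (f : S' ⟶ S) [QuasiCompact f] [IsSchemeTheoreticallyDominant f]
    {H G : Over S} [GrpObj H] [GrpObj G] (i : H ⟶ G) [IsMonHom i] [IsClosedImmersion i.left]
    [Flat H.hom], W G.hom → Q (H := Red.bc f H) (G := Red.bc f G) ((Over.pullback f).map i) → Q i

/-- `G` contains a closed subgroup `i : H ⟶ G` of dimension `d` with `Q i`. -/
def HasP (Q : ∀ {S : Scheme.{u}} {H G : Over S} [GrpObj H] [GrpObj G] (_ : H ⟶ G), Prop)
    (d : WithBot ℕ∞) {S : Scheme.{u}} (G : Over S) [GrpObj G] : Prop :=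
  ∃ (H : Over S) (_ : GrpObj H) (i : H ⟶ G),
    IsMonHom i ∧ IsClosedImmersion i.left ∧ Q i ∧ topologicalKrullDim ↥H.left = d

variable {W : MorphismProperty Scheme.{u}}
  {Q : ∀ {S : Scheme.{u}} {H G : Over S} [GrpObj H] [GrpObj G] (_ : H ⟶ G), Prop} {d : WithBot ℕ∞}

/-- A flat morphism locally of finite type to the spectrum of a domain is locally of finite
presentation. -/
theorem locallyOfFinitePresentation_of_domain {R : Type u} [CommRing R] [IsDomain R] {X : Scheme.{u}}
    (q : X ⟶ Spec (CommRingCat.of R)) [Flat q] [LocallyOfFiniteType q] :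
    LocallyOfFinitePresentation q := by
  have key : ∀ (A : CommRingCat.{u}) (j : Spec A ⟶ Spec (CommRingCat.of R)) [Flat j]
      [LocallyOfFiniteType j], LocallyOfFinitePresentation j := by
    intro A j hfl hft
    obtain ⟨ψ, rfl⟩ := Spec.map_surjective j
    rw [Flat.SpecMap_iff] at hfl
    rw [HasRingHomProperty.Spec_iff (P := @LocallyOfFiniteType)] at hft
    rw [HasRingHomProperty.Spec_iff (P := @LocallyOfFinitePresentation)]
    algebraize [ψ.hom]
    exact S0406.result (R := R) (S := A)
  refine (IsZariskiLocalAtSource.iff_of_openCover (P := @LocallyOfFinitePresentation)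
    X.affineCover).2 fun i => ?_
  obtain ⟨A, hA⟩ : ∃ A : CommRingCat.{u}, X.affineCover.X i = Spec A := ⟨_, rfl⟩
  have h1 : X.affineCover.f i ≫ q = eqToHom hA ≫ (eqToHom hA.symm ≫ X.affineCover.f i) ≫ q := by simp
  have h2 := key A ((eqToHom hA.symm ≫ X.affineCover.f i) ≫ q)
  rw [h1]
  infer_instance

lemma HasP.of_iso {S : Scheme.{u}} {G G' : Over S} [GrpObj G] [GrpObj G'] (hQ : IsSpec W @Q)
    (e : Grp.mk G ≅ Grp.mk G') (h : HasP Q d G) : HasP Q d G' := by
  obtain ⟨H, hH, i, hi, hi', hP, hd⟩ := h
  let ε : G ≅ G' := (Grp.forget _).mapIso e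
  have hε : IsMonHom ε.hom := inferInstanceAs (IsMonHom e.hom.hom.hom)
  have hεl : IsIso ε.hom.left := inferInstanceAs (IsIso ((Over.forget _).map ε.hom))
  have h1 : IsMonHom (Iso.refl H).hom := inferInstanceAs (IsMonHom (𝟙 H))
  refine ⟨H, hH, i ≫ ε.hom, inferInstance, ?_, hQ.iso (Iso.refl H) ε (Category.id_comp _) hP, hd⟩
  rw [Over.comp_left]
  infer_instance

lemma HasP.bc {k k' : Type u} [Field k] [Field k']
    (f : Spec (CommRingCat.of k') ⟶ Spec (CommRingCat.of k))
    {G : Over (Spec (CommRingCat.of k))} [GrpObj G] [LocallyOfFiniteType G.hom] (hQ : IsSpec W @Q)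
    (h : HasP Q d G) : HasP Q d (Red.bc f G) := by
  obtain ⟨H, hH, i, hi, hi', hQH, hd⟩ := h
  have hft : LocallyOfFiniteType H.hom := by rw [← Over.w i]; infer_instance
  refine ⟨Red.bc f H, inferInstance, (Over.pullback f).map i,
    inferInstanceAs (IsMonHom ((Over.pullback f).map i)),
    Bc.map_left_mem (P := @IsClosedImmersion) f i hi', hQ.bc f i hQH, ?_⟩
  rw [← hd]
  exact Sga3B.DimFib.topologicalKrullDim_baseChange_eq (Field.toIsField _) (Field.toIsField _) _ _ _ _
    (IsPullback.of_hasPullback H.hom f)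

lemma HasP.comp {S S' S'' : Scheme.{u}} (hQ : IsSpec W @Q) {q : S'' ⟶ S'} {g : S' ⟶ S}
    {h : S'' ⟶ S} (hh : q ≫ g = h) (G : Over S) [GrpObj G] :
    HasP Q d (Red.bc h G) ↔ HasP Q d (Red.bc q (Red.bc g G)) := by
  subst hh
  exact ⟨HasP.of_iso hQ (BcIso.bcCompIso q g G), HasP.of_iso hQ (BcIso.bcCompIso q g G).symm⟩

/-- Over a domain whose torsion-free modules are flat, `HasP Q d` passes from the generic point to all
points. -/
theorem hasP_of_flatTF (R K : Type u) [CommRing R] [IsDomain R] (hR : GenClos.FlatTF R) [Field K]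
    [Algebra R K] [IsFractionRing R K] (G : Over (Spec (CommRingCat.of R))) [GrpObj G]
    [LocallyOfFiniteType G.hom] (hQ : IsSpec W @Q) (hW : W G.hom)
    (h : HasP Q d (Red.bc (gen R K) G)) {κ : Type u} [Field κ]
    (f : Spec (CommRingCat.of κ) ⟶ Spec (CommRingCat.of R)) : HasP Q d (Red.bc f G) := by
  obtain ⟨H, hH, j, hj, hj', hQH, hd⟩ := h
  obtain ⟨N, hN, i, e, hi, hi', hfl, he, hei⟩ := GenClos.exists_closure_of R K hR G j
  have hft : LocallyOfFiniteType N.hom := by rw [← Over.w i]; infer_instance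
  have hfp : LocallyOfFinitePresentation N.hom := locallyOfFinitePresentation_of_domain N.hom
  have hes : IsMonHom e.symm.hom := inferInstanceAs (IsMonHom e.inv)
  have hrefl : IsMonHom (Iso.refl (Red.bc (gen R K) G)).hom :=
    inferInstanceAs (IsMonHom (𝟙 (Red.bc (gen R K) G)))
  have hQN : Q i := by
    refine hQ.dom (gen R K) i hW (hQ.iso e.symm (Iso.refl _) ?_ hQH)
    rw [← hei]
    exact (Iso.inv_hom_id_assoc e j).trans (Category.comp_id j).symm
  refine ⟨Red.bc f N, inferInstance, (Over.pullback f).map i,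
    inferInstanceAs (IsMonHom ((Over.pullback f).map i)),
    Bc.map_left_mem (P := @IsClosedImmersion) f i hi', hQ.bc f i hQN, ?_⟩
  have hps : PreconnectedSpace ↥(Spec (CommRingCat.of R)) :=
    inferInstanceAs (PreconnectedSpace (PrimeSpectrum R))
  rw [DimPt.dim_bc_eq N f (gen R K), ← hd]
  exact IsHomeomorph.topologicalKrullDim_eq _
    (Scheme.homeoOfIso ((Over.forget _).mapIso e)).isHomeomorph

/-- Over a Dedekind domain, `HasP Q d` passes from the generic point to all points. -/
theorem hasP_of_dedekind (R K : Type u) [CommRing R] [IsDomain R] [IsDedekindRing R] [Field K]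
    [Algebra R K] [IsFractionRing R K] (G : Over (Spec (CommRingCat.of R))) [GrpObj G]
    [LocallyOfFiniteType G.hom] (hQ : IsSpec W @Q) (hW : W G.hom)
    (h : HasP Q d (Red.bc (gen R K) G)) {κ : Type u} [Field κ]
    (f : Spec (CommRingCat.of κ) ⟶ Spec (CommRingCat.of R)) : HasP Q d (Red.bc f G) :=
  hasP_of_flatTF R K (GenClos.flatTF_dedekind R) G hQ hW h f

variable [W.IsStableUnderBaseChange]

/-- `HasP Q d` passes from the generic fibre to points which factor through a Dedekind domain
dominating the base. -/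
theorem hasP_of_step (hQ : IsSpec W @Q) (A : Type u) [CommRing A] [IsDomain A]
    (K : Type u) [Field K] [Algebra A K] [IsFractionRing A K] (R : Type u) [CommRing R] [IsDomain R]
    [IsDedekindRing R] (i : A →+* R) (hi : Function.Injective i) (K' : Type u) [Field K']
    [Algebra R K'] [IsFractionRing R K'] (κ : Type u) [Field κ] (ρ : R →+* κ)
    (G : Over (Spec (CommRingCat.of A))) [GrpObj G] [LocallyOfFiniteType G.hom]
    (hW : W G.hom) (h : HasP Q d (Red.bc (gen A K) G)) :
    HasP Q d (Red.bc (Spec.map (CommRingCat.ofHom (ρ.comp i))) G) := by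
  have hα : Function.Injective ((algebraMap R K').comp i) :=
    (IsFractionRing.injective R K').comp hi
  have hψ : Spec.map (CommRingCat.ofHom (IsFractionRing.lift (K := K) hα)) ≫ gen A K =
      Spec.map (CommRingCat.ofHom ((algebraMap R K').comp i)) := by
    rw [gen, ← Spec.map_comp, ← CommRingCat.ofHom_comp]
    congr 2
    ext a
    exact IsFractionRing.lift_algebraMap hα a
  have hR : gen R K' ≫ Spec.map (CommRingCat.ofHom i) =
      Spec.map (CommRingCat.ofHom ((algebraMap R K').comp i)) := by
    rw [gen, ← Spec.map_comp, ← CommRingCat.ofHom_comp]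
  have hft : LocallyOfFiniteType (Red.bc (gen A K) G).hom := Bc.hom_mem _ ‹_›
  have h2 := (HasP.comp hQ hψ G).2 (h.bc _ hQ)
  have hft2 : LocallyOfFiniteType (Red.bc (Spec.map (CommRingCat.ofHom i)) G).hom :=
    Bc.hom_mem _ ‹_›
  have h4 := hasP_of_dedekind R K' _ hQ (Bc.hom_mem _ hW) ((HasP.comp hQ hR G).1 h2)
    (Spec.map (CommRingCat.ofHom ρ))
  have hκ : Spec.map (CommRingCat.ofHom ρ) ≫ Spec.map (CommRingCat.ofHom i) =
      Spec.map (CommRingCat.ofHom (ρ.comp i)) := by
    rw [← Spec.map_comp, ← CommRingCat.ofHom_comp]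
  exact (HasP.comp hQ hκ G).2 h4

/-- **Closed subgroups of the special fibre over a regular local ring.** -/
theorem hasP_of_regular (hQ : IsSpec W @Q) (n : ℕ) : ∀ (A : Type u) [CommRing A] [IsDomain A]
    [IsRegularLocalRing A] (_ : ringKrullDim A = n) (K : Type u) [Field K] [Algebra A K]
    [IsFractionRing A K] (k : Type u) [Field k] (φ : A →+* k) (_ : Function.Surjective φ)
    (G : Over (Spec (CommRingCat.of A))) [GrpObj G] [LocallyOfFiniteType G.hom]
    (_ : W G.hom) (_ : HasP Q d (Red.bc (gen A K) G)),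
    HasP Q d (Red.bc (Spec.map (CommRingCat.ofHom φ)) G) := by
  induction n with
  | zero =>
    intro A _ _ _ hn K _ _ _ k _ φ hφ G _ _ _ h
    have hf : IsField A := by
      rw [IsLocalRing.isField_iff_maximalIdeal_eq]
      have h1 := IsRegularLocalRing.spanFinrank_maximalIdeal (R := A)
      rw [hn] at h1
      have h2 : (IsLocalRing.maximalIdeal A).spanFinrank = 0 := by exact_mod_cast h1
      rwa [Submodule.spanFinrank_eq_zero_iff_eq_bot (IsNoetherian.noetherian _)] at h2
    have hb : Function.Bijective (algebraMap A K) :=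
      ⟨IsFractionRing.injective A K, IsFractionRing.surjective_iff_isField.mpr hf⟩
    let e := RingEquiv.ofBijective (algebraMap A K) hb
    let ψ : K →+* k := φ.comp (e.symm : K →+* A)
    have hψ : Spec.map (CommRingCat.ofHom ψ) ≫ gen A K = Spec.map (CommRingCat.ofHom φ) := by
      rw [gen, ← Spec.map_comp, ← CommRingCat.ofHom_comp]
      congr 2
      ext a
      change φ (e.symm (e a)) = φ a
      rw [e.symm_apply_apply]
    have hft : LocallyOfFiniteType (Red.bc (gen A K) G).hom := Bc.hom_mem _ ‹_›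
    exact (HasP.comp hQ hψ G).2 (h.bc _ hQ)
  | succ n ih =>
    intro A _ _ _ hn K _ _ _ k _ φ hφ G _ _ hW h
    obtain ⟨x, hx, hx2⟩ : ∃ x ∈ IsLocalRing.maximalIdeal A, x ∉ IsLocalRing.maximalIdeal A ^ 2 := by
      by_contra hcon
      push Not at hcon
      have h1 : IsLocalRing.maximalIdeal A = ⊥ := by
        refine Submodule.eq_bot_of_le_smul_of_le_jacobson_bot (IsLocalRing.maximalIdeal A)
          (IsLocalRing.maximalIdeal A) (IsNoetherian.noetherian _) ?_
          (IsLocalRing.maximalIdeal_le_jacobson _)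
        intro x hx
        rw [smul_eq_mul, ← pow_two]
        exact hcon x hx
      have h2 := ringKrullDim_eq_zero_of_isField ((IsLocalRing.isField_iff_maximalIdeal_eq).2 h1)
      rw [hn] at h2
      have h3 : n + 1 = 0 := by exact_mod_cast h2
      omega
    obtain ⟨hreg, hdim⟩ := CalgA.RegBasic.quotient_of_notMem_sq x hx hx2
    have hdim' : ringKrullDim (A ⧸ Ideal.span {x}) = n := by
      obtain ⟨m, hm⟩ : ∃ m : ℕ, ringKrullDim (A ⧸ Ideal.span {x}) = m :=
        ⟨_, IsRegularLocalRing.spanFinrank_maximalIdeal.symm⟩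
      rw [hm, hn] at hdim
      rw [hm]
      have : m + 1 = n + 1 := by exact_mod_cast hdim
      have : m = n := by omega
      rw [this]
    have hφp : ∀ a ∈ Ideal.span {x}, φ a = 0 := by
      intro a ha
      have h7 : Ideal.span {x} ≤ RingHom.ker φ := by
        rw [Ideal.span_singleton_le_iff_mem]
        have := RingHom.ker_isMaximal_of_surjective φ hφ
        rw [IsLocalRing.eq_maximalIdeal this]
        exact hx
      exact h7 ha
    have hdom : IsDomain (A ⧸ Ideal.span {x}) := CalgA.RegBasic.isDomain _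
    have hp : (Ideal.span {x}).IsPrime := (Ideal.Quotient.isDomain_iff_prime _).mp hdom
    generalize hpx : Ideal.span {x} = p at *
    have hRd : IsDomain (Localization.AtPrime p) := IsLocalization.isDomain_of_atPrime _ p
    have hRn : IsNoetherianRing (Localization.AtPrime p) :=
      IsLocalization.isNoetherianRing p.primeCompl _ inferInstance
    have hRm : (IsLocalRing.maximalIdeal (Localization.AtPrime p)).IsPrincipal := by
      rw [← Localization.AtPrime.map_eq_maximalIdeal]
      have h9 : Ideal.map (algebraMap A (Localization.AtPrime p)) p =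
          Ideal.span {algebraMap A (Localization.AtPrime p) x} := by
        rw [← Set.image_singleton (f := algebraMap A (Localization.AtPrime p)), ← Ideal.map_span]
        exact congrArg _ hpx.symm
      exact ⟨⟨_, h9⟩⟩
    have hRD : IsDedekindDomain (Localization.AtPrime p) :=
      ((tfae_of_isNoetherianRing_of_isLocalRing_of_isDomain _).out 4 2).1 hRm
    have h5 := hasP_of_step hQ A K (Localization.AtPrime p) (algebraMap A _)
      (IsLocalization.injective _ p.primeCompl_le_nonZeroDivisors)
      (FractionRing (Localization.AtPrime p)) p.ResidueField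
      (algebraMap (Localization.AtPrime p) _) G hW h
    have hq : gen (A ⧸ p) p.ResidueField ≫ Spec.map (CommRingCat.ofHom (algebraMap A (A ⧸ p))) =
        Spec.map (CommRingCat.ofHom ((algebraMap (Localization.AtPrime p) p.ResidueField).comp
          (algebraMap A (Localization.AtPrime p)))) := by
      rw [gen, ← Spec.map_comp, ← CommRingCat.ofHom_comp, ← IsScalarTower.algebraMap_eq,
        ← IsScalarTower.algebraMap_eq]
    have hft3 : LocallyOfFiniteType
        (Red.bc (Spec.map (CommRingCat.ofHom (algebraMap A (A ⧸ p)))) G).hom := Bc.hom_mem _ ‹_›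
    have h6 := ih (A ⧸ p) hdim' p.ResidueField k (Ideal.Quotient.lift p φ hφp)
      (Ideal.Quotient.lift_surjective_of_surjective p hφp hφ)
      (Red.bc (Spec.map (CommRingCat.ofHom (algebraMap A (A ⧸ p)))) G) (Bc.hom_mem _ hW)
      ((HasP.comp hQ hq G).1 h5)
    refine (HasP.comp hQ ?_ G).2 h6
    rw [← Spec.map_comp, ← CommRingCat.ofHom_comp]
    rfl

section Instances

omit [W.IsStableUnderBaseChange] in
/-- no condition -/
theorem isSpec_true : IsSpec W (fun {_} {_ _} _ _ _ => True) where
  iso := by intros; trivial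
  bc := by intros; trivial
  dom := by intros; trivial

/-- normality, for flat groups -/
theorem isSpec_normal : IsSpec @Flat (fun {_} {_ _} _ _ i => AlgGrp.IsNormalHom i) where
  iso e ε _ _ h hi := GenClos.isNormalHom_of_iso e ε h hi
  bc f _ _ _ _ _ _ h := GenClos.isNormalHom_bc f h
  dom f _ _ _ _ _ _ i _ _ _ hW h :=
    haveI : Flat _ := hW
    GenClos.isNormalHom_of_dominant f i h

/-- containment of commutators, for flat groups -/
theorem isSpec_hasComm : IsSpec @Flat (fun {_} {_ _} _ _ i => GenClos.HasComm i) where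
  iso e ε _ _ h hi := GenClos.HasComm.of_iso e.hom ε h hi
  bc f _ _ _ _ _ _ h := GenClos.hasComm_bc f h
  dom f _ _ _ _ _ _ i _ _ _ hW h :=
    haveI : Flat _ := hW
    GenClos.hasComm_of_dominant f i h

/-- a property of the subgroup, for separated groups -/
theorem isSpec_of_specProp {P : ∀ {S : Scheme.{u}} (U : Over S) [GrpObj U], Prop}
    (hP : SpecReg.SpecProp @P) : IsSpec @IsSeparated (fun {_} {H _} _ _ _ => P H) where
  iso e _ _ _ _ h := hP.iso e h
  bc f H _ _ _ _ _ h := hP.bc f H h
  dom f _ _ H _ _ _ i _ _ _ hW h :=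
    haveI : IsSeparated _ := hW
    haveI : IsSeparated H.hom := by rw [← Over.w i]; infer_instance
    hP.dom f H h

omit [W.IsStableUnderBaseChange] in
theorem IsSpec.and {W' : MorphismProperty Scheme.{u}}
    {Q' : ∀ {S : Scheme.{u}} {H G : Over S} [GrpObj H] [GrpObj G] (_ : H ⟶ G), Prop}
    (h : IsSpec W @Q) (h' : IsSpec W' @Q') :
    IsSpec (W ⊓ W') (fun {_} {_ _} _ _ i => Q i ∧ Q' i) where
  iso e ε _ _ hi hh := ⟨h.iso e ε hi hh.1, h'.iso e ε hi hh.2⟩
  bc f _ _ _ _ i _ hh := ⟨h.bc f i hh.1, h'.bc f i hh.2⟩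
  dom f _ _ _ _ _ _ i _ _ _ hW hh := ⟨h.dom f i hW.1 hh.1, h'.dom f i hW.2 hh.2⟩

omit [W.IsStableUnderBaseChange] in
theorem IsSpec.mono {W' : MorphismProperty Scheme.{u}} (hW : W' ≤ W) (h : IsSpec W @Q) :
    IsSpec W' @Q where
  iso e ε _ _ hi hh := h.iso e ε hi hh
  bc f _ _ _ _ i _ hh := h.bc f i hh
  dom f _ _ _ _ _ _ i _ _ _ hW' hh := h.dom f i (hW _ hW') hh

end Instances

end Groth.Agent.AlgGrp.K411.SpecPair
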