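import Groth.Agent.AlgGrp.K411.GenClos
import Groth.Agent.AlgGrp.K411.DimPt
import Groth.Agent.AlgGrp.K411.IsogWord
import Groth.Agent.CalgA.RegBasic
import Groth.Agent.Sga3B.BcIso
import Mathlib.RingTheory.LocalRing.ResidueField.Ideal
import Mathlib.RingTheory.DiscreteValuationRing.TFAE

/-!
# Closed subgroups of the special fibre of a group scheme over a regular local ring

* `SpecProp`: properties of group schemes stable under isomorphisms and base change and which extend
  from a schematically dense base change to a flat separated group (commutative, nilpotent, solvable);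
* `Has P d G`: `G` contains a closed subgroup of dimension `d` with property `P`;
* `has_of_dedekind`: over a Dedekind domain, `Has P d` passes from the generic fibre to all points;
* `has_of_regular`: the same for a regular local ring and the closed point.
-/

set_option autoImplicit false
set_option linter.overlappingInstances false
universe u
open CategoryTheory MonoidalCategory CartesianMonoidalCategory MonObj GrpObj AlgebraicGeometry
open CategoryTheory.Limits

namespace Groth.Agent.AlgGrp.K411.SpecReg

open Groth.Agent.Sga7.H116.L1 Groth.Agent.Sga3B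

/-- Properties of group schemes stable under isomorphisms and base change which extend from a
schematically dense base change to a flat separated group. -/
structure SpecProp (P : ∀ {S : Scheme.{u}} (U : Over S) [GrpObj U], Prop) : Prop where
  iso : ∀ {S : Scheme.{u}} {U V : Over S} [GrpObj U] [GrpObj V] (e : U ≅ V) [IsMonHom e.hom],
    P U → P V
  bc : ∀ {S S' : Scheme.{u}} (f : S' ⟶ S) (U : Over S) [GrpObj U], P U → P (Red.bc f U)
  dom : ∀ {S S' : Scheme.{u}} (f : S' ⟶ S) [QuasiCompact f] [IsSchemeTheoreticallyDominant f]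
    (U : Over S) [GrpObj U] [Flat U.hom] [IsSeparated U.hom], P (Red.bc f U) → P U

section SpecProps

variable {S : Scheme.{u}} {H G : Over S} [GrpObj H] [GrpObj G]

theorem isSolvableGrp_of_mono (j : H ⟶ G) [IsMonHom j] [Mono j] (h : Red.IsSolvableGrp G) :
    Red.IsSolvableGrp H := by
  obtain ⟨n, hn⟩ := h
  refine ⟨n, (WordDens.forall_derivedSeries_iff n).2 ?_⟩
  rw [← cancel_mono j, IsogWord.delta_comp, (WordDens.forall_derivedSeries_iff n).1 hn,
    MonObj.comp_one, MonObj.one_comp]

theorem isNilpotentGrp_of_mono (j : H ⟶ G) [IsMonHom j] [Mono j] (h : AGF.IsNilpotentGrp G) :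
    AGF.IsNilpotentGrp H := by
  obtain ⟨n, hn⟩ := h
  refine ⟨n, (WordDens.forall_upperCentralSeries_iff n).2 ?_⟩
  rw [← cancel_mono j, IsogWord.nword_comp, (WordDens.forall_upperCentralSeries_iff n).1 hn,
    MonObj.comp_one, MonObj.one_comp]

theorem isCommMonObj_of_mono (j : H ⟶ G) [IsMonHom j] [Mono j] (h : IsCommMonObj G) :
    IsCommMonObj H := by
  rw [WordDens.isCommMonObj_iff_delta] at h ⊢
  rw [← cancel_mono j, IsogWord.commutator_comp, MonObj.one_comp]
  have h1 := congrArg (fun t => (j ⊗ₘ j) ≫ t) h
  simp only [Sga3.H782.WordMor.comp_commutator, tensorHom_fst, tensorHom_snd, MonObj.comp_one] at h1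
  exact h1

theorem isCommMonObj_bc {S' : Scheme.{u}} (f : S' ⟶ S) (h : IsCommMonObj G) :
    IsCommMonObj (Red.bc f G) :=
  inferInstanceAs (IsCommMonObj ((Over.pullback f).obj G))

theorem specProp_comm : SpecProp.{u} (fun {_} U _ => IsCommMonObj U) where
  iso e _ h := isCommMonObj_of_mono e.inv h
  bc f _ _ h := isCommMonObj_bc f h
  dom f _ _ _ _ _ _ h := WordDens.isCommMonObj_of_dominant (f := f) h

theorem specProp_nilpotent : SpecProp.{u} (fun {_} U _ => AGF.IsNilpotentGrp U) where
  iso e _ h := isNilpotentGrp_of_mono e.inv h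
  bc f U _ h := WordDens.isNilpotentGrp_bc f U h
  dom f _ _ _ _ _ _ h := WordDens.isNilpotentGrp_of_dominant (f := f) h

theorem specProp_solvable : SpecProp.{u} (fun {_} U _ => Red.IsSolvableGrp U) where
  iso e _ h := isSolvableGrp_of_mono e.inv h
  bc f U _ h := WordDens.isSolvableGrp_bc f U h
  dom f _ _ _ _ _ _ h := WordDens.isSolvableGrp_of_dominant (f := f) h

end SpecProps

/-- `G` contains a closed subgroup of dimension `d` with property `P`. -/
def Has (P : ∀ {S : Scheme.{u}} (U : Over S) [GrpObj U], Prop) (d : WithBot ℕ∞) {S : Scheme.{u}} (G : Over S)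
    [GrpObj G] : Prop :=
  ∃ (H : Over S) (_ : GrpObj H) (i : H ⟶ G),
    IsMonHom i ∧ IsClosedImmersion i.left ∧ P H ∧ topologicalKrullDim ↥H.left = d

variable {P : ∀ {S : Scheme.{u}} (U : Over S) [GrpObj U], Prop} {d : WithBot ℕ∞}

lemma Has.of_iso {S : Scheme.{u}} {G G' : Over S} [GrpObj G] [GrpObj G'] (e : Grp.mk G ≅ Grp.mk G')
    (h : Has P d G) : Has P d G' := by
  obtain ⟨H, hH, i, hi, hi', hP, hd⟩ := h
  let ε : G ≅ G' := (Grp.forget _).mapIso e
  have hε : IsMonHom ε.hom := inferInstanceAs (IsMonHom e.hom.hom.hom)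
  have hεl : IsIso ε.hom.left := inferInstanceAs (IsIso ((Over.forget _).map ε.hom))
  refine ⟨H, hH, i ≫ ε.hom, inferInstance, ?_, hP, hd⟩
  rw [Over.comp_left]
  infer_instance

lemma Has.bc {k k' : Type u} [Field k] [Field k'] (f : Spec (CommRingCat.of k') ⟶ Spec (CommRingCat.of k))
    {G : Over (Spec (CommRingCat.of k))} [GrpObj G] [LocallyOfFiniteType G.hom] (hP : SpecProp @P)
    (h : Has P d G) : Has P d (Red.bc f G) := by
  obtain ⟨H, hH, i, hi, hi', hPH, hd⟩ := h
  have hft : LocallyOfFiniteType H.hom := by rw [← Over.w i]; infer_instance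
  refine ⟨Red.bc f H, inferInstance, (Over.pullback f).map i,
    inferInstanceAs (IsMonHom ((Over.pullback f).map i)),
    Bc.map_left_mem (P := @IsClosedImmersion) f i hi', hP.bc f H hPH, ?_⟩
  rw [← hd]
  exact Sga3B.DimFib.topologicalKrullDim_baseChange_eq (Field.toIsField _) (Field.toIsField _) _ _ _ _
    (IsPullback.of_hasPullback H.hom f)

/-- Over a Dedekind domain, `Has P d` passes from the generic point to all points. -/
theorem has_of_dedekind (R K : Type u) [CommRing R] [IsDomain R] [IsDedekindRing R] [Field K]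
    [Algebra R K] [IsFractionRing R K] (G : Over (Spec (CommRingCat.of R))) [GrpObj G]
    [LocallyOfFiniteType G.hom] [IsSeparated G.hom] (hP : SpecProp @P)
    (h : Has P d (Red.bc (gen R K) G)) {κ : Type u} [Field κ]
    (f : Spec (CommRingCat.of κ) ⟶ Spec (CommRingCat.of R)) : Has P d (Red.bc f G) := by
  obtain ⟨H, hH, j, hj, hj', hPH, hd⟩ := h
  obtain ⟨N, hN, i, e, hi, hi', hfl, he, hei⟩ := GenClos.exists_closure R K G j
  have hnoeth : IsNoetherianRing R := inferInstance
  have hln : IsLocallyNoetherian (Spec (CommRingCat.of R)) := inferInstance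
  have hft : LocallyOfFiniteType N.hom := by rw [← Over.w i]; infer_instance
  have hfp : LocallyOfFinitePresentation N.hom := inferInstance
  have hsep : IsSeparated N.hom := by rw [← Over.w i]; infer_instance
  have hes : IsMonHom e.symm.hom := inferInstanceAs (IsMonHom e.inv)
  have hPN : P N := hP.dom (gen R K) N (hP.iso e.symm hPH)
  refine ⟨Red.bc f N, inferInstance, (Over.pullback f).map i,
    inferInstanceAs (IsMonHom ((Over.pullback f).map i)),
    Bc.map_left_mem (P := @IsClosedImmersion) f i hi', hP.bc f N hPN, ?_⟩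
  have hps : PreconnectedSpace ↥(Spec (CommRingCat.of R)) :=
    inferInstanceAs (PreconnectedSpace (PrimeSpectrum R))
  rw [DimPt.dim_bc_eq N f (gen R K), ← hd]
  exact IsHomeomorph.topologicalKrullDim_eq _
    (Scheme.homeoOfIso ((Over.forget _).mapIso e)).isHomeomorph

lemma Has.comp {S S' S'' : Scheme.{u}} {q : S'' ⟶ S'} {g : S' ⟶ S} {h : S'' ⟶ S} (hh : q ≫ g = h)
    (G : Over S) [GrpObj G] : Has P d (Red.bc h G) ↔ Has P d (Red.bc q (Red.bc g G)) := by
  subst hh
  exact ⟨Has.of_iso (BcIso.bcCompIso q g G), Has.of_iso (BcIso.bcCompIso q g G).symm⟩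

/-- `Has P d` passes from the generic fibre to points which factor through a Dedekind domain
dominating the base. -/
theorem has_of_step (hP : SpecProp @P) (A : Type u) [CommRing A] [IsDomain A]
    (K : Type u) [Field K] [Algebra A K] [IsFractionRing A K] (R : Type u) [CommRing R] [IsDomain R]
    [IsDedekindRing R] (i : A →+* R) (hi : Function.Injective i) (K' : Type u) [Field K']
    [Algebra R K'] [IsFractionRing R K'] (κ : Type u) [Field κ] (ρ : R →+* κ)
    (G : Over (Spec (CommRingCat.of A))) [GrpObj G] [LocallyOfFiniteType G.hom]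
    [IsSeparated G.hom] (h : Has P d (Red.bc (gen A K) G)) :
    Has P d (Red.bc (Spec.map (CommRingCat.ofHom (ρ.comp i))) G) := by
  have hα : Function.Injective ((algebraMap R K').comp i) :=
    (IsFractionRing.injective R K').comp hi
  have hψ : Spec.map (CommRingCat.ofHom (IsFractionRing.lift (K := K) hα)) ≫ gen A K =
      Spec.map (CommRingCat.ofHom ((algebraMap R K').comp i)) := by
    rw [gen, ← Spec.map_comp, ← CommRingCat.ofHom_comp]
    congr 2
    ext a
    exact IsFractionRing.lift_algebraMap hα a
  have hR : gen R K' ≫ Spec.map (CommRingCat.ofHom i) =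
      Spec.map (CommRingCat.ofHom ((algebraMap R K').comp i)) := by
    rw [gen, ← Spec.map_comp, ← CommRingCat.ofHom_comp]
  have hft : LocallyOfFiniteType (Red.bc (gen A K) G).hom := Bc.hom_mem _ ‹_›
  have h2 := (Has.comp hψ G).2 (h.bc _ hP)
  have hft2 : LocallyOfFiniteType (Red.bc (Spec.map (CommRingCat.ofHom i)) G).hom :=
    Bc.hom_mem _ ‹_›
  have hsep2 : IsSeparated (Red.bc (Spec.map (CommRingCat.ofHom i)) G).hom :=
    Bc.hom_mem _ ‹_›
  have h4 := has_of_dedekind R K' _ hP ((Has.comp hR G).1 h2) (Spec.map (CommRingCat.ofHom ρ))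
  have hκ : Spec.map (CommRingCat.ofHom ρ) ≫ Spec.map (CommRingCat.ofHom i) =
      Spec.map (CommRingCat.ofHom (ρ.comp i)) := by
    rw [← Spec.map_comp, ← CommRingCat.ofHom_comp]
  exact (Has.comp hκ G).2 h4

/-- **Closed subgroups of the special fibre over a regular local ring.** -/
theorem has_of_regular (hP : SpecProp @P) (n : ℕ) : ∀ (A : Type u) [CommRing A] [IsDomain A]
    [IsRegularLocalRing A] (_ : ringKrullDim A = n) (K : Type u) [Field K] [Algebra A K]
    [IsFractionRing A K] (k : Type u) [Field k] (φ : A →+* k) (_ : Function.Surjective φ)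
    (G : Over (Spec (CommRingCat.of A))) [GrpObj G] [LocallyOfFiniteType G.hom]
    [IsSeparated G.hom] (_ : Has P d (Red.bc (gen A K) G)),
    Has P d (Red.bc (Spec.map (CommRingCat.ofHom φ)) G) := by
  induction n with
  | zero =>
    intro A _ _ _ hn K _ _ _ k _ φ hφ G _ _ _ h
    have hf : IsField A := by
      rw [IsLocalRing.isField_iff_maximalIdeal_eq]
      have h1 := IsRegularLocalRing.spanFinrank_maximalIdeal (R := A)
      rw [hn] at h1
      have h2 : (IsLocalRing.maximalIdeal A).spanFinrank = 0 := by exact_mod_cast h1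
      rwa [Submodule.spanFinrank_eq_zero_iff_eq_bot (IsNoetherian.noetherian _)] at h2
    have hb : Function.Bijective (algebraMap A K) :=
      ⟨IsFractionRing.injective A K, IsFractionRing.surjective_iff_isField.mpr hf⟩
    let e := RingEquiv.ofBijective (algebraMap A K) hb
    let ψ : K →+* k := φ.comp (e.symm : K →+* A)
    have hψ : Spec.map (CommRingCat.ofHom ψ) ≫ gen A K = Spec.map (CommRingCat.ofHom φ) := by
      rw [gen, ← Spec.map_comp, ← CommRingCat.ofHom_comp]
      congr 2
      ext a
      change φ (e.symm (e a)) = φ a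
      rw [e.symm_apply_apply]
    have hft : LocallyOfFiniteType (Red.bc (gen A K) G).hom := Bc.hom_mem _ ‹_›
    exact (Has.comp hψ G).2 (h.bc _ hP)
  | succ n ih =>
    intro A _ _ _ hn K _ _ _ k _ φ hφ G _ _ _ h
    obtain ⟨x, hx, hx2⟩ : ∃ x ∈ IsLocalRing.maximalIdeal A, x ∉ IsLocalRing.maximalIdeal A ^ 2 := by
      by_contra hcon
      push Not at hcon
      have h1 : IsLocalRing.maximalIdeal A = ⊥ := by
        refine Submodule.eq_bot_of_le_smul_of_le_jacobson_bot (IsLocalRing.maximalIdeal A)
          (IsLocalRing.maximalIdeal A) (IsNoetherian.noetherian _) ?_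
          (IsLocalRing.maximalIdeal_le_jacobson _)
        intro x hx
        rw [smul_eq_mul, ← pow_two]
        exact hcon x hx
      have h2 := ringKrullDim_eq_zero_of_isField ((IsLocalRing.isField_iff_maximalIdeal_eq).2 h1)
      rw [hn] at h2
      have h3 : n + 1 = 0 := by exact_mod_cast h2
      omega
    obtain ⟨hreg, hdim⟩ := CalgA.RegBasic.quotient_of_notMem_sq x hx hx2
    have hdim' : ringKrullDim (A ⧸ Ideal.span {x}) = n := by
      obtain ⟨m, hm⟩ : ∃ m : ℕ, ringKrullDim (A ⧸ Ideal.span {x}) = m :=
        ⟨_, IsRegularLocalRing.spanFinrank_maximalIdeal.symm⟩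
      rw [hm, hn] at hdim
      rw [hm]
      have : m + 1 = n + 1 := by exact_mod_cast hdim
      have : m = n := by omega
      rw [this]
    have hφp : ∀ a ∈ Ideal.span {x}, φ a = 0 := by
      intro a ha
      have h7 : Ideal.span {x} ≤ RingHom.ker φ := by
        rw [Ideal.span_singleton_le_iff_mem]
        have := RingHom.ker_isMaximal_of_surjective φ hφ
        rw [IsLocalRing.eq_maximalIdeal this]
        exact hx
      exact h7 ha
    have hdom : IsDomain (A ⧸ Ideal.span {x}) := CalgA.RegBasic.isDomain _
    have hp : (Ideal.span {x}).IsPrime := (Ideal.Quotient.isDomain_iff_prime _).mp hdom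
    generalize hpx : Ideal.span {x} = p at *
    have hRd : IsDomain (Localization.AtPrime p) := IsLocalization.isDomain_of_atPrime _ p
    have hRn : IsNoetherianRing (Localization.AtPrime p) :=
      IsLocalization.isNoetherianRing p.primeCompl _ inferInstance
    have hRm : (IsLocalRing.maximalIdeal (Localization.AtPrime p)).IsPrincipal := by
      rw [← Localization.AtPrime.map_eq_maximalIdeal]
      have h9 : Ideal.map (algebraMap A (Localization.AtPrime p)) p =
          Ideal.span {algebraMap A (Localization.AtPrime p) x} := by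
        rw [← Set.image_singleton (f := algebraMap A (Localization.AtPrime p)), ← Ideal.map_span]
        exact congrArg _ hpx.symm
      exact ⟨⟨_, h9⟩⟩
    have hRD : IsDedekindDomain (Localization.AtPrime p) :=
      ((tfae_of_isNoetherianRing_of_isLocalRing_of_isDomain _).out 4 2).1 hRm
    have h5 := has_of_step hP A K (Localization.AtPrime p) (algebraMap A _)
      (IsLocalization.injective _ p.primeCompl_le_nonZeroDivisors)
      (FractionRing (Localization.AtPrime p)) p.ResidueField (algebraMap (Localization.AtPrime p) _) G h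
    have hq : gen (A ⧸ p) p.ResidueField ≫ Spec.map (CommRingCat.ofHom (algebraMap A (A ⧸ p))) =
        Spec.map (CommRingCat.ofHom ((algebraMap (Localization.AtPrime p) p.ResidueField).comp
          (algebraMap A (Localization.AtPrime p)))) := by
      rw [gen, ← Spec.map_comp, ← CommRingCat.ofHom_comp, ← IsScalarTower.algebraMap_eq,
        ← IsScalarTower.algebraMap_eq]
    have hft3 : LocallyOfFiniteType
        (Red.bc (Spec.map (CommRingCat.ofHom (algebraMap A (A ⧸ p)))) G).hom := Bc.hom_mem _ ‹_›
    have hsep3 : IsSeparated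
        (Red.bc (Spec.map (CommRingCat.ofHom (algebraMap A (A ⧸ p)))) G).hom := Bc.hom_mem _ ‹_›
    have h6 := ih (A ⧸ p) hdim' p.ResidueField k (Ideal.Quotient.lift p φ hφp)
      (Ideal.Quotient.lift_surjective_of_surjective p hφp hφ) _ ((Has.comp hq G).1 h5)
    refine (Has.comp ?_ G).2 h6
    rw [← Spec.map_comp, ← CommRingCat.ofHom_comp]
    rfl

end Groth.Agent.AlgGrp.K411.SpecReg
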